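import Groth.Agent.KFlat.ApproxExtend

/-!
# Gluing approximations without assuming the scheme quasi-separated

Only the traces on the affine piece of the opens need to be quasi-compact.
-/

set_option autoImplicit false

universe u

open CategoryTheory CategoryTheory.Limits AlgebraicGeometry Pretriangulated DerivedCategory
open Groth.Agent.PerfTri Groth.Agent.CohDerLib Groth.Agent.PerfExt
open Groth.Agent.KFlat.Approx hiding exists_lift_two step_U reduce_U good_two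
open scoped ZeroObject

attribute [local instance] HasDerivedCategory.standard
attribute [-instance] CategoryTheory.ReflQuiver.toQuiver

noncomputable section

namespace Groth.Agent.GammaLib.ApproxGlue

variable {X : Scheme.{u}}

/-- gluing: a perfect object on `U`, doubled, extends to `X` -/
theorem exists_extension (U V W : X.Opens) (hUV : U ⊔ V = ⊤) [IsAffine (V : Scheme.{u})]
    (hO : IsCompact ((V.ι ⁻¹ᵁ U : (V : Scheme.{u}).Opens) : Set (V : Scheme.{u})))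
    (hWV : IsCompact ((V.ι ⁻¹ᵁ W : (V : Scheme.{u}).Opens) : Set (V : Scheme.{u})))
    (P : DCoh.D (U : Scheme.{u})) (hP : DCoh.IsPerfect P)
    (hPW : IsZero ((DCoh.restrictD (U.ι ⁻¹ᵁ W).ι).obj P)) [HasBinaryBiproduct P (P⟦(1 : ℤ)⟧)] :
    ∃ R : DCoh.D X, DCoh.IsPerfect R ∧ IsZero ((DCoh.restrictD W.ι).obj R) ∧
      Nonempty ((DCoh.restrictD U.ι).obj R ≅ P ⊞ P⟦(1 : ℤ)⟧) := by
  have := HasBinaryBiproducts.of_hasBinaryProducts (C := DCoh.D (U : Scheme.{u}))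
  let A := P ⊞ P⟦(1 : ℤ)⟧
  have := KFlat.RPush.hasRpush U.ι
  have := KFlat.RPush.hasRpush V.ι
  obtain ⟨adjV⟩ := exists_adj (X := X) V.ι
  let N := (DCoh.restrictD V.ι).obj ((DCoh.Rpush U.ι).obj A)
  let O : (V : Scheme.{u}).Opens := V.ι ⁻¹ᵁ U
  let WV : (V : Scheme.{u}).Opens := V.ι ⁻¹ᵁ W
  have : CompactSpace (V : Scheme.{u}) := inferInstance
  -- `O → U`
  let m := IsOpenImmersion.lift U.ι (O.ι ≫ V.ι) (by
    rintro _ ⟨z, rfl⟩; rw [Scheme.Opens.range_ι]; exact z.2)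
  have : IsOpenImmersion m := by
    have : IsOpenImmersion (m ≫ U.ι) := by rw [IsOpenImmersion.lift_fac]; infer_instance
    exact IsOpenImmersion.of_comp m U.ι
  let eNO : (DCoh.restrictD O.ι).obj N ≅ (DCoh.restrictD m).obj A :=
    (restrictDComp O.ι V.ι (O.ι ≫ V.ι) rfl).app _ ≪≫
      ((restrictDComp m U.ι (O.ι ≫ V.ι) (IsOpenImmersion.lift_fac _ _ _)).app _).symm ≪≫
      (DCoh.restrictD m).mapIso ((Kosz.restrictRpushSelf U).app A)
  let B := (DCoh.restrictD m).obj P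
  have hBW : IsZero ((DCoh.restrictD (O.ι ⁻¹ᵁ WV).ι).obj B) :=
    (isZero_restrict_of_range (U.ι ⁻¹ᵁ W) ((O.ι ⁻¹ᵁ WV).ι ≫ m) (by
      rintro _ ⟨z, rfl⟩
      show U.ι (m ((O.ι ⁻¹ᵁ WV).ι z)) ∈ W
      rw [← Scheme.Hom.comp_apply m U.ι, IsOpenImmersion.lift_fac]
      exact z.2) hPW).of_iso ((restrictDComp (O.ι ⁻¹ᵁ WV).ι m _ rfl).app P)
  have := HasBinaryBiproducts.of_hasBinaryProducts (C := DCoh.D (O : Scheme.{u}))
  have : PreservesBinaryBiproducts (DCoh.restrictD m) := preservesBinaryBiproducts_of_preservesBiproducts _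
  obtain ⟨M, hM, hMW, ⟨eM⟩⟩ := thomason_supp O hO WV hWV B (isPerfect_restrict m hP) hBW
  let R' := (T (V : Scheme.{u})).obj M
  let eR : (DCoh.restrictD O.ι).obj R' ≅ (DCoh.restrictD O.ι).obj N :=
    eM ≪≫ biprod.mapIso (Iso.refl _) (((DCoh.restrictD m).commShiftIso (1 : ℤ)).app P).symm ≪≫
      ((DCoh.restrictD m).mapBiprod P (P⟦(1 : ℤ)⟧)).symm ≪≫ eNO.symm
  have := KFlat.RPush.hasRpush O.ι
  obtain ⟨adjO⟩ := exists_adj (X := (V : Scheme.{u})) O.ι
  -- the unit at `N` is an isomorphism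
  have hN : IsIso (adjO.unit.app N) := by
    have := KFlat.RPush.hasRpush (U.ι ∣_ V)
    have := KFlat.RPush.hasRpush (U.ι ⁻¹ᵁ V).ι
    let k' := U.ι ∣_ V
    have hk' : Set.range k' ⊆ Set.range O.ι := by
      rw [Scheme.Opens.range_ι]
      rintro _ ⟨z, rfl⟩
      show V.ι (k' z) ∈ U
      rw [← Scheme.Hom.comp_apply k' V.ι, morphismRestrict_ι]
      exact ((U.ι ⁻¹ᵁ V).ι z).2
    let l := IsOpenImmersion.lift O.ι k' hk'
    have : IsOpenImmersion l := by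
      have : IsOpenImmersion (l ≫ O.ι) := by rw [IsOpenImmersion.lift_fac]; infer_instance
      exact IsOpenImmersion.of_comp l O.ι
    have := KFlat.RPush.hasRpush l
    have := KFlat.RPush.hasRpush (l ≫ O.ι)
    have hl : l ≫ O.ι = U.ι ∣_ V := IsOpenImmersion.lift_fac _ _ _
    let Y := (DCoh.restrictD (U.ι ⁻¹ᵁ V).ι).obj A
    have e1 : Nonempty ((DCoh.Rpush O.ι).obj ((DCoh.Rpush l).obj Y) ≅ (DCoh.Rpush (U.ι ∣_ V)).obj Y) :=
      ⟨(KFlat.RPush.rpushCompIso l O.ι).app Y ≪≫ eqToIso (by congr 2)⟩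
    obtain ⟨e1⟩ := e1
    let e : (DCoh.Rpush O.ι).obj ((DCoh.Rpush l).obj Y) ≅ N :=
      e1 ≪≫ ((KFlat.RPushBase.restrictRpushIso U.ι V).app A).symm
    have := adjO.isIso_counit_of_iso (Kosz.restrictRpushSelf O)
    have : IsIso (adjO.unit.app ((DCoh.Rpush O.ι).obj ((DCoh.Rpush l).obj Y))) :=
      (IsIso.eq_inv_of_inv_hom_id (adjO.right_triangle_components ((DCoh.Rpush l).obj Y))) ▸ inferInstance
    exact (NatTrans.isIso_app_iff_of_iso adjO.unit e).1 this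
  let u : R' ⟶ N := adjO.homEquiv _ _ eR.hom ≫ inv (adjO.unit.app N)
  have huO : IsIso ((DCoh.restrictD O.ι).map u) := by
    have h1 := Kosz.isIso_restrict_unit O adjO R'
    have h2 := Kosz.isIso_restrict_unit O adjO N
    have : u = adjO.unit.app R' ≫ (DCoh.Rpush O.ι).map eR.hom ≫ inv (adjO.unit.app N) := by
      simp [u, Adjunction.homEquiv_unit]
    rw [this, Functor.map_comp, Functor.map_comp]
    infer_instance
  obtain ⟨C, c, d, hC⟩ := distinguished_cocone_triangle u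
  have hCO : IsZero ((DCoh.restrictD O.ι).obj C) :=
    (Triangle.isZero₃_iff_isIso₁ _ ((DCoh.restrictD O.ι).map_distinguished _ hC)).2 huO
  obtain ⟨adjU⟩ := exists_adj (X := X) U.ι
  let C' := (DCoh.Rpush V.ι).obj C
  have := adjV.isIso_counit_of_iso (Kosz.restrictRpushSelf V)
  let ψ : (DCoh.Rpush U.ι).obj A ⟶ C' := adjV.homEquiv _ _ c
  obtain ⟨R, r, s, hR⟩ := distinguished_cocone_triangle₁ ψ
  have hC'U : IsZero ((DCoh.restrictD U.ι).obj C') := by
    have := KFlat.RPush.hasRpush (V.ι ∣_ U)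
    exact ((DCoh.Rpush (V.ι ∣_ U)).map_isZero hCO).of_iso ((KFlat.RPushBase.restrictRpushIso V.ι U).app C)
  have hRU : IsIso ((DCoh.restrictD U.ι).map r) :=
    (Triangle.isZero₃_iff_isIso₁ _ ((DCoh.restrictD U.ι).map_distinguished _ hR)).1 hC'U
  let eRU : (DCoh.restrictD U.ι).obj R ≅ A :=
    @asIso _ _ _ _ _ hRU ≪≫ (Kosz.restrictRpushSelf U).app A
  let eRV : (DCoh.restrictD V.ι).obj R ≅ R' := by
    have : IsIso (adjV.counit.app C) := inferInstanceAs (IsIso (adjV.counit.app C))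
    refine (shiftFunctor (DCoh.D (V : Scheme.{u})) (1 : ℤ)).preimageIso (Triangle.π₃.mapIso (isoTriangleOfIso₁₂
      ((DCoh.restrictD V.ι).mapTriangle.obj (Triangle.mk r ψ s)).rotate (Triangle.mk u c d).rotate
      (rot_of_distTriang _ ((DCoh.restrictD V.ι).map_distinguished _ hR)) (rot_of_distTriang _ hC) (Iso.refl N)
      (@asIso _ _ _ _ (adjV.counit.app C) this :) ?_))
    change (DCoh.restrictD V.ι).map ψ ≫ adjV.counit.app C = 𝟙 N ≫ c
    rw [Category.id_comp]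
    exact ((adjV.homEquiv_counit _ _ _).symm.trans ((adjV.homEquiv _ _).symm_apply_apply c))
  refine ⟨R, isPerfect_of_cover U V hUV (Perfect.isPerfect_of_iso eRU.symm ?_)
    (Perfect.isPerfect_of_iso eRV.symm ((isPerfect_T_iff _ M).2 hM)), ?_, ⟨eRU⟩⟩
  · exact Perfect.isPerfect₂ _ (binaryBiproductTriangle_distinguished P (P⟦(1 : ℤ)⟧)) hP (Perfect.isPerfect_shift hP 1)
  · let U₁ : (W : Scheme.{u}).Opens := W.ι ⁻¹ᵁ U
    let V₁ : (W : Scheme.{u}).Opens := W.ι ⁻¹ᵁ V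
    refine isZero_of_cover U₁ V₁ (top_le_iff.1 fun z _ => by
      have : W.ι z ∈ U ⊔ V := by rw [hUV]; trivial
      exact this) ?_ ?_
    · let l := IsOpenImmersion.lift U.ι (U₁.ι ≫ W.ι) (by rintro _ ⟨z, rfl⟩; rw [Scheme.Opens.range_ι]; exact z.2)
      have : IsOpenImmersion l := by
        have : IsOpenImmersion (l ≫ U.ι) := by rw [IsOpenImmersion.lift_fac]; infer_instance
        exact IsOpenImmersion.of_comp l U.ι
      have hl : Set.range l ⊆ (U.ι ⁻¹ᵁ W : (U : Scheme.{u}).Opens) := by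
        rintro _ ⟨z, rfl⟩
        show U.ι (l z) ∈ W
        rw [← Scheme.Hom.comp_apply l U.ι, IsOpenImmersion.lift_fac]
        exact (U₁.ι z).2
      have : PreservesBinaryBiproducts (DCoh.restrictD l) := preservesBinaryBiproducts_of_preservesBiproducts _
      refine IsZero.of_iso ?_ ((restrictDComp U₁.ι W.ι (U₁.ι ≫ W.ι) rfl).app R ≪≫
        ((restrictDComp l U.ι (U₁.ι ≫ W.ι) (IsOpenImmersion.lift_fac _ _ _)).app R).symm ≪≫
        (DCoh.restrictD l).mapIso eRU)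
      have hz1 := isZero_restrict_of_range (U.ι ⁻¹ᵁ W) l hl hPW
      have := HasBinaryBiproducts.of_hasBinaryProducts (C := DCoh.D (U₁ : Scheme.{u}))
      exact ((biprod_isZero_iff _ _).2 ⟨hz1, ((shiftFunctor _ (1 : ℤ)).map_isZero hz1).of_iso
        (((DCoh.restrictD l).commShiftIso (1 : ℤ)).app P)⟩).of_iso ((DCoh.restrictD l).mapBiprod P (P⟦(1 : ℤ)⟧))
    · let l := IsOpenImmersion.lift V.ι (V₁.ι ≫ W.ι) (by rintro _ ⟨z, rfl⟩; rw [Scheme.Opens.range_ι]; exact z.2)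
      have : IsOpenImmersion l := by
        have : IsOpenImmersion (l ≫ V.ι) := by rw [IsOpenImmersion.lift_fac]; infer_instance
        exact IsOpenImmersion.of_comp l V.ι
      exact (isZero_restrict_of_range WV l (by
        rintro _ ⟨z, rfl⟩
        show V.ι (l z) ∈ W
        rw [← Scheme.Hom.comp_apply l V.ι, IsOpenImmersion.lift_fac]
        exact (V₁.ι z).2) hMW).of_iso ((restrictDComp V₁.ι W.ι (V₁.ι ≫ W.ι) rfl).app R ≪≫
        ((restrictDComp l V.ι (V₁.ι ≫ W.ι) (IsOpenImmersion.lift_fac _ _ _)).app R).symm ≪≫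
        (DCoh.restrictD l).mapIso eRV)

/-- lifting a map from an extended object -/
theorem exists_lift_two (U V W : X.Opens) (hUV : U ⊔ V = ⊤)
    [IsAffine (V : Scheme.{u})] [QuasiCompact U.ι]
    (hO : IsCompact ((V.ι ⁻¹ᵁ U : (V : Scheme.{u}).Opens) : Set (V : Scheme.{u})))
    (hWV : IsCompact ((V.ι ⁻¹ᵁ W : (V : Scheme.{u}).Opens) : Set (V : Scheme.{u})))
    (E : DCoh.D X) (hE : DCoh.IsQCohD E) (R₀ : DCoh.D X) (hR₀ : DCoh.IsPerfect R₀)
    (hR₀W : IsZero ((DCoh.restrictD W.ι).obj R₀))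
    (α' : (DCoh.restrictD U.ι).obj R₀ ⟶ (DCoh.restrictD U.ι).obj E) :
    ∃ (R : DCoh.D X) (β : R ⟶ E) (ν : R ⟶ R₀), DCoh.IsPerfect R ∧ IsZero ((DCoh.restrictD W.ι).obj R) ∧
      IsIso ((DCoh.restrictD U.ι).map ν) ∧
      (DCoh.restrictD U.ι).map β = (DCoh.restrictD U.ι).map ν ≫ α' := by
  have := KFlat.RPush.hasRpush U.ι
  have := KFlat.RPush.hasRpush V.ι
  obtain ⟨adj⟩ := exists_adj (X := X) U.ι
  obtain ⟨adjV⟩ := exists_adj (X := X) V.ι
  let φ : R₀ ⟶ (DCoh.Rpush U.ι).obj ((DCoh.restrictD U.ι).obj E) := adj.homEquiv _ _ α'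
  obtain ⟨C, c, d, hC⟩ := distinguished_cocone_triangle (adj.unit.app E)
  have hCq : DCoh.IsQCohD C := Groth.Agent.PCohD.isQCohD_obj₃ _ hC hE
    (QC.isQCohD_Rpush U.ι _ (isQCohD_restrict U.ι hE))
  have hCU : IsZero ((DCoh.restrictD U.ι).obj C) :=
    (Triangle.isZero₃_iff_isIso₁ _ ((DCoh.restrictD U.ι).map_distinguished _ hC)).2 (Kosz.isIso_restrict_unit U adj E)
  obtain ⟨M, ⟨eM⟩⟩ := exists_iso_T (V : Scheme.{u}) (isQCohD_restrict V.ι (isQCohD_of_isPerfect hR₀))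
  obtain ⟨N, ⟨eN⟩⟩ := exists_iso_T (V : Scheme.{u}) (isQCohD_restrict V.ι hCq)
  let O : (V : Scheme.{u}).Opens := V.ι ⁻¹ᵁ U
  let WV : (V : Scheme.{u}).Opens := V.ι ⁻¹ᵁ W
  obtain ⟨fs, hfs⟩ := exists_isZero_iff (V : Scheme.{u}) O hO
  obtain ⟨gs, hgs⟩ := exists_isZero_iff (V : Scheme.{u}) WV hWV
  obtain ⟨θ, hθ⟩ := (T (V : Scheme.{u})).map_surjective (eM.hom ≫ (DCoh.restrictD V.ι).map (φ ≫ c) ≫ eN.inv)
  have hNO : ∀ g ∈ fs, Kosz.HTors g N := (hfs N).1
    (((isZero_restrict_of_range U (O.ι ≫ V.ι) (by rintro _ ⟨z, rfl⟩; exact z.2) hCU).of_iso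
      ((restrictDComp O.ι V.ι _ rfl).app C)).of_iso ((DCoh.restrictD O.ι).mapIso eN))
  have hMW : ∀ g ∈ gs, Kosz.HTors g M := (hgs M).1
    (((isZero_restrict_of_range W (WV.ι ≫ V.ι) (by rintro _ ⟨z, rfl⟩; exact z.2) hR₀W).of_iso
      ((restrictDComp WV.ι V.ι _ rfl).app R₀)).of_iso ((DCoh.restrictD WV.ι).mapIso eM))
  obtain ⟨Z, q, ψ, hZp, hq, hZO, hZx⟩ := exists_factor' fs M N
    ((isPerfect_T_iff _ M).1 (Perfect.isPerfect_of_iso eM.symm (isPerfect_restrict V.ι hR₀))) hNO θ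
  let ZX := (DCoh.Rpush V.ι).obj ((T (V : Scheme.{u})).obj Z)
  have hZU : IsZero ((DCoh.restrictD U.ι).obj ZX) := by
    have := KFlat.RPush.hasRpush (V.ι ∣_ U)
    exact ((DCoh.Rpush (V.ι ∣_ U)).map_isZero ((hfs Z).2 hZO)).of_iso
      ((KFlat.RPushBase.restrictRpushIso V.ι U).app ((T (V : Scheme.{u})).obj Z))
  have hZW : IsZero ((DCoh.restrictD W.ι).obj ZX) := by
    have := KFlat.RPush.hasRpush (V.ι ∣_ W)
    exact ((DCoh.Rpush (V.ι ∣_ W)).map_isZero ((hgs Z).2 fun g hg => hZx g (hMW g hg))).of_iso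
      ((KFlat.RPushBase.restrictRpushIso V.ι W).app ((T (V : Scheme.{u})).obj Z))
  have hZperf : DCoh.IsPerfect ZX := isPerfect_of_cover U V hUV (Perfect.isPerfect_zero hZU)
    (Perfect.isPerfect_of_iso ((Kosz.restrictRpushSelf V).app _).symm ((isPerfect_T_iff _ Z).2 hZp))
  let q' : R₀ ⟶ ZX := adjV.homEquiv _ _ (eM.inv ≫ (T (V : Scheme.{u})).map q)
  let ψ' : ZX ⟶ (DCoh.Rpush V.ι).obj ((DCoh.restrictD V.ι).obj C) :=
    (DCoh.Rpush V.ι).map ((T (V : Scheme.{u})).map ψ ≫ eN.hom)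
  have hηC : IsIso (adjV.unit.app C) := by
    refine isIso_of_cover U V hUV _ (isIso_of_isInitial hCU.isInitial (IsZero.isInitial ?_) _)
      (Kosz.isIso_restrict_unit V adjV C)
    have := KFlat.RPush.hasRpush (V.ι ∣_ U)
    exact ((DCoh.Rpush (V.ι ∣_ U)).map_isZero ((isZero_restrict_of_range U (O.ι ≫ V.ι)
      (by rintro _ ⟨z, rfl⟩; exact z.2) hCU).of_iso ((restrictDComp O.ι V.ι _ rfl).app C))).of_iso
      ((KFlat.RPushBase.restrictRpushIso V.ι U).app _)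
  obtain ⟨R, ν, h', hR⟩ := distinguished_cocone_triangle₁ q'
  have hqψ : q' ≫ ψ' = (φ ≫ c) ≫ adjV.unit.app C := by
    refine (adjV.homEquiv_naturality_right _ _).symm.trans ?_
    refine Eq.trans ?_ (adjV.unit.naturality (φ ≫ c)).symm
    rw [Adjunction.homEquiv_unit]
    refine congrArg (fun x => adjV.unit.app R₀ ≫ (DCoh.Rpush V.ι).map x) ?_
    rw [Category.assoc, ← Functor.map_comp_assoc, hq, hθ]
    simp only [Category.assoc, Iso.inv_hom_id, Category.comp_id, Iso.inv_hom_id_assoc]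
  have hν : (ν ≫ φ) ≫ c = 0 := by
    refine (cancel_mono (adjV.unit.app C)).1 ?_
    rw [zero_comp, Category.assoc ν φ c, Category.assoc ν (φ ≫ c), ← hqψ, ← Category.assoc]
    exact (congrArg (· ≫ ψ') (comp_distTriang_mor_zero₁₂ _ hR)).trans zero_comp
  obtain ⟨β, hβ⟩ : ∃ β : R ⟶ E, ν ≫ φ = β ≫ adj.unit.app E := Triangle.coyoneda_exact₂ _ hC (ν ≫ φ) hν
  refine ⟨R, β, ν, Perfect.isPerfect₁ _ hR hR₀ hZperf, ?_,
    (Triangle.isZero₃_iff_isIso₁ _ ((DCoh.restrictD U.ι).map_distinguished _ hR)).1 hZU, ?_⟩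
  · refine (Triangle.isZero₁_iff_isIso₂ _ ((DCoh.restrictD W.ι).map_distinguished _ hR)).2 ?_
    exact isIso_of_isInitial hR₀W.isInitial hZW.isInitial _
  · apply (adj.homEquiv _ _).injective
    rw [adj.homEquiv_naturality_left]
    exact ((adj.homEquiv_unit _ _ _).trans (adj.unit.naturality β).symm).trans hβ.symm

variable [CompactSpace X] (U V W : X.Opens) (hUV : U ⊔ V = ⊤) [IsAffine (V : Scheme.{u})] [QuasiCompact U.ι]
  (hU : IsCompact (U : Set X)) (hO : IsCompact ((V.ι ⁻¹ᵁ U : (V : Scheme.{u}).Opens) : Set (V : Scheme.{u})))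
  (hWV : IsCompact ((V.ι ⁻¹ᵁ W : (V : Scheme.{u}).Opens) : Set (V : Scheme.{u})))

include hUV hU hO hWV in
/-- one step of the approximation along `U` -/
theorem step_U {r : ℤ} (hGU : Good (U : Scheme.{u}) (U.ι ⁻¹ᵁ W) r) (hr : 0 ≤ r) (n e : ℤ) (hne : n ≤ e)
    (E : DCoh.D X) (hq : DCoh.IsQCohD E) (hpc : DCoh.IsPseudoCoherentD (n - r) E)
    (hEW : VanGE (n - r) ((DCoh.restrictD W.ι).obj E))
    (hE : VanGE (e + 1) ((DCoh.restrictD U.ι).obj E)) :
    ∃ (C P : DCoh.D X) (b : E ⟶ C) (c : C ⟶ P) (d : P ⟶ E⟦(1 : ℤ)⟧),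
      Triangle.mk b c d ∈ distinguishedTriangles ∧ DCoh.IsPerfect P ∧
        IsZero ((DCoh.restrictD W.ι).obj P) ∧ VanGE e ((DCoh.restrictD U.ι).obj C) := by
  have : CompactSpace (U : Scheme.{u}) := isCompact_iff_compactSpace.1 hU
  have hEW' : VanGE (n - r) ((DCoh.restrictD (U.ι ⁻¹ᵁ W).ι).obj ((DCoh.restrictD U.ι).obj E)) :=
    vanGE_of_iso ((restrictDComp (U.ι ⁻¹ᵁ W).ι U.ι _ rfl).app E).symm
      (vanGE_of_range W _ (by rintro _ ⟨z, rfl⟩; exact z.2) hEW)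
  obtain ⟨CU, PU₁, bU, cU, dU, hTU, hPU₁, hPUW₁, hCU⟩ :=
    hGU n _ (isQCohD_restrict U.ι hq) (PCohD.pc_restrict U.ι hpc) hEW'
  let PU := PU₁⟦(-1 : ℤ)⟧
  have hT' := inv_rot_of_distTriang _ hTU
  let α : PU ⟶ (DCoh.restrictD U.ι).obj E := (Triangle.mk bU cU dU).invRotate.mor₁
  have hPU : DCoh.IsPerfect PU := Perfect.isPerfect_shift hPU₁ (-1)
  have hPUW : IsZero ((DCoh.restrictD (U.ι ⁻¹ᵁ W).ι).obj PU) :=
    ((shiftFunctor _ (-1 : ℤ)).map_isZero hPUW₁).of_iso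
      (((DCoh.restrictD (U.ι ⁻¹ᵁ W).ι).commShiftIso (-1 : ℤ)).app PU₁)
  have hPUv : VanGE (e + 1) PU := fun i hi =>
    ((HomologySequence.exact₂ _ (rot_of_distTriang _ hTU) (i - 1)).isZero_of_both_zeros
      ((hCU (i - 1) (by omega)).eq_of_src _ _)
      (((hE i hi).of_iso (((homologyFunctor (U : Scheme.{u}).Modules 0).shiftIso (1 : ℤ) (i - 1) i
        (by omega)).app ((DCoh.restrictD U.ι).obj E))).eq_of_tgt _ _)).of_iso
      (((homologyFunctor (U : Scheme.{u}).Modules 0).shiftIso (-1 : ℤ) i (i - 1) (by omega)).app PU₁)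
  have := HasBinaryBiproducts.of_hasBinaryProducts (C := DCoh.D (U : Scheme.{u}))
  obtain ⟨R₀, hR₀, hR₀W, ⟨eR⟩⟩ := Groth.Agent.GammaLib.ApproxGlue.exists_extension U V W hUV hO hWV PU hPU hPUW
  obtain ⟨R, β, ν, hR, hRW, hν, hβ⟩ := exists_lift_two U V W hUV hO hWV E hq R₀ hR₀ hR₀W
    (eR.hom ≫ biprod.fst ≫ α)
  obtain ⟨C, b, c, hC⟩ := distinguished_cocone_triangle β
  refine ⟨C, R⟦(1 : ℤ)⟧, b, c, -(β⟦(1 : ℤ)⟧'), rot_of_distTriang _ hC, Perfect.isPerfect_shift hR 1,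
    ((shiftFunctor _ (1 : ℤ)).map_isZero hRW).of_iso (((DCoh.restrictD W.ι).commShiftIso (1 : ℤ)).app R), ?_⟩
  refine vanGE₃ _ ((DCoh.restrictD U.ι).map_distinguished _ hC) e (fun i hi => ?_) ?_
  · have h1 : (homologyFunctor _ i).map ((DCoh.restrictD U.ι).map β) ≫
        (homologyFunctor _ i).map ((DCoh.restrictD U.ι).map b) = 0 :=
      ((homologyFunctor _ i).map_comp _ _).symm.trans ((congrArg _ (((DCoh.restrictD U.ι).map_comp β b).symm.trans
        ((congrArg (fun f => (DCoh.restrictD U.ι).map f) (comp_distTriang_mor_zero₁₂ _ hC)).trans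
          (Functor.map_zero _ _ _)))).trans (Functor.map_zero _ _ _))
    have hαe : Epi ((homologyFunctor _ i).map α) :=
      (HomologySequence.epi_homologyMap_mor₁_iff _ hT' i).2 ((hCU i (by omega)).eq_of_tgt _ _)
    have : Epi ((homologyFunctor _ i).map ((DCoh.restrictD U.ι).map β)) := by
      rw [hβ, Functor.map_comp, Functor.map_comp, Functor.map_comp]
      infer_instance
    exact (cancel_epi ((homologyFunctor _ i).map ((DCoh.restrictD U.ι).map β))).1 (h1.trans comp_zero.symm)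
  · intro i hi
    refine IsZero.of_iso ?_ ((homologyFunctor _ i).mapIso (@asIso _ _ _ _ _ hν ≪≫ eR))
    exact (HomologySequence.exact₂ _ (binaryBiproductTriangle_distinguished PU (PU⟦(1 : ℤ)⟧)) i).isZero_of_both_zeros
      ((hPUv i (by omega)).eq_of_src _ _)
      (((hPUv (i + 1) (by omega)).of_iso
        (((homologyFunctor (U : Scheme.{u}).Modules 0).shiftIso (1 : ℤ) i (i + 1) (by omega)).app PU)).eq_of_tgt _ _)

include hUV hU hO hWV in
/-- approximation on `U` reduces to vanishing on `U` -/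
theorem reduce_U {r : ℤ} (hGU : Good (U : Scheme.{u}) (U.ι ⁻¹ᵁ W) r) (hr : 0 ≤ r) (n : ℤ) (k : ℕ)
    (E : DCoh.D X) (hq : DCoh.IsQCohD E) (hpc : DCoh.IsPseudoCoherentD (n - r) E)
    (hEW : VanGE (n - r) ((DCoh.restrictD W.ι).obj E))
    (hk : VanGE (n + k) ((DCoh.restrictD U.ι).obj E)) {m : ℤ}
    (h : ∀ C : DCoh.D X, DCoh.IsQCohD C → DCoh.IsPseudoCoherentD (n - r) C →
      VanGE (n - r) ((DCoh.restrictD W.ι).obj C) → VanGE n ((DCoh.restrictD U.ι).obj C) → Appx W m C) :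
    Appx W m E := by
  induction k generalizing E with
  | zero => exact h E hq hpc hEW (by simpa using hk)
  | succ k ih =>
    push_cast at hk
    obtain ⟨C, P, b, c, d, hT, hP, hPW, hC⟩ := step_U U V W hUV hU hO hWV hGU hr n (n + k) (by omega) E hq hpc hEW
      (vanGE_mono hk (by omega))
    refine appx_trans hT hP hPW (ih C (Groth.Agent.PCohD.isQCohD_obj₃ _ (inv_rot_of_distTriang _ hT)
        (PerfExt.isQCohD_of_isPerfect (Perfect.isPerfect_shift hP (-1))) hq)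
      (PCohD.pc₂ _ hT hpc (PCohD.pc_of_perfect hP _)) (vanGE_of_iso ?_ hEW) hC)
    exact @asIso _ _ _ _ ((DCoh.restrictD W.ι).map b)
      ((Triangle.isZero₃_iff_isIso₁ _ ((DCoh.restrictD W.ι).map_distinguished _ hT)).1 hPW)

include hUV hU hO hWV in
/-- approximation on `U` gives approximation on `X = U ∪ V` -/
theorem good_two {r : ℤ} (hGU : Good (U : Scheme.{u}) (U.ι ⁻¹ᵁ W) r) (hr : 0 ≤ r) :
    ∃ r', 0 ≤ r' ∧ Good X W r' := by
  let W' : (V : Scheme.{u}).Opens := V.ι ⁻¹ᵁ (U ⊔ W)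
  obtain ⟨fs, hfs⟩ := exists_isZero_iff (V : Scheme.{u}) W'
    (hO.union hWV)
  refine ⟨r + fs.length, by omega, fun m E hq hpc hEW => ?_⟩
  obtain ⟨k, hk⟩ := exists_bound_of_pc hpc
  let n : ℤ := m - fs.length
  refine reduce_U U V W hUV hU hO hWV hGU hr n k E hq (by simpa [n, sub_sub, add_comm] using hpc)
    (by simpa [n, sub_sub, add_comm] using hEW)
    (vanGE_mono (vanGE_restrict U.ι hk) (by simp [n]; omega)) fun C hCq hCpc hCW hCU => ?_
  refine extend_open U V W hUV m C (vanGE_mono hCU (by simp [n])) ?_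
  have hCpc' := PCohD.pc_restrict V.ι (PCohD.pc_mono hCpc (show n - r ≤ m by simp [n]; omega))
  obtain ⟨k', hk'⟩ := exists_bound_of_pc hCpc'
  refine affine_appx (X := (V : Scheme.{u})) W' hfs m _ (isQCohD_restrict V.ι hCq) hCpc'
    (vanGE_mono ?_ (show n ≤ m - (fs.length : ℤ) + 1 by simp [n])) k' hk'
  refine vanGE_of_iso ((restrictDComp W'.ι V.ι _ rfl).app C).symm (vanGE_of_range (U ⊔ W) _
    (by rintro _ ⟨z, rfl⟩; exact z.2) (vanGE_of_sup U W _ le_rfl hCU (vanGE_mono hCW (by omega))))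

end Groth.Agent.GammaLib.ApproxGlue
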