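import Groth.Agent.S1046
import Groth.Agent.PCohD.RelLpull
import Groth.Agent.PerfExt.Affine
import Groth.Agent.S0481
import Groth.Agent.CohDerLib.QC.PerfHom
import Groth.Prelude.Def_CxOX

/-!
# Derived sections with support as a colocalisation
-/

set_option autoImplicit false

universe u

open CategoryTheory CategoryTheory.Limits AlgebraicGeometry Pretriangulated DerivedCategory
open Groth.Agent.KFlat Groth.Agent.KFlat.WeakKInj Groth.Agent.DTrunc

attribute [local instance] HasDerivedCategory.standard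
attribute [-instance] CategoryTheory.ReflQuiver.toQuiver

noncomputable section

namespace Groth.Agent.GammaLib

variable {U X : Scheme.{u}} (j : U ⟶ X) [IsOpenImmersion j]

/-- objects killed by restriction see nothing in `C` -/
def Local (C : DCoh.D X) : Prop :=
  ∀ Y : DCoh.D X, IsZero ((DCoh.restrictD j).obj Y) → ∀ φ : Y ⟶ C, φ = 0

/-- termwise restriction -/
abbrev rC : CochainComplex X.Modules ℤ ⥤ CochainComplex U.Modules ℤ :=
  (Scheme.Modules.restrictFunctor j).mapHomologicalComplex (ComplexShape.up ℤ)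

/-- termwise sections with support -/
abbrev Γc : CochainComplex X.Modules ℤ ⥤ CochainComplex X.Modules ℤ :=
  (DCoh.gammaZ j).mapHomologicalComplex (ComplexShape.up ℤ)

/-- the inclusion -/
def incl (I : CochainComplex X.Modules ℤ) : (Γc j).obj I ⟶ I where
  f n := (CxOX.gammaZι j).app (I.X n)
  comm' a b _ := ((CxOX.gammaZι j).naturality (I.d a b)).symm

/-- the unit -/
def ηc (I : CochainComplex X.Modules ℤ) : I ⟶ (pushCx j).obj ((rC j).obj I) where
  f n := (Scheme.Modules.restrictAdjunction j).unit.app (I.X n)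
  comm' a b _ := ((Scheme.Modules.restrictAdjunction j).unit.naturality (I.d a b)).symm

/-- the sequence -/
def supSeq (I : CochainComplex X.Modules ℤ) : ShortComplex (CochainComplex X.Modules ℤ) :=
  ShortComplex.mk (incl j I) (ηc j I)
    (HomologicalComplex.hom_ext _ _ fun n => kernel.condition ((Scheme.Modules.restrictAdjunction j).unit.app (I.X n)))

theorem epi_unit {F : X.Modules} (hF : Injective F) :
    Epi ((Scheme.Modules.restrictAdjunction j).unit.app F) := by
  refine MVSheaf.epi_of_surjective (U := (⊤ : X.Opens)) (V := (⊤ : X.Opens)) (by simp) _ fun O _ => ?_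
  have := Groth.Agent.ModShf.isFlasque_toAb_of_injective F hF
  exact (AddCommGrpCat.epi_iff_surjective _).1
    (TopCat.Presheaf.IsFlasque.epi (F := (Coh.toAb F).obj) (homOfLE (j.image_preimage_le O)).op)

theorem shortExact_supSeq (I : CochainComplex X.Modules ℤ) (hI : ∀ n, Injective (I.X n)) :
    (supSeq j I).ShortExact :=
  HomologicalComplex.shortExact_of_degreewise_shortExact _ fun n =>
    { exact := ShortComplex.exact_of_f_is_kernel _
        (kernelIsKernel ((Scheme.Modules.restrictAdjunction j).unit.app (I.X n)))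
      mono_f := inferInstanceAs (Mono (kernel.ι ((Scheme.Modules.restrictAdjunction j).unit.app (I.X n))))
      epi_g := epi_unit j (hI n) }

theorem isZero_restrict_gammaZ (F : X.Modules) :
    IsZero ((Scheme.Modules.restrictFunctor j).obj ((DCoh.gammaZ j).obj F)) := by
  let adj := Scheme.Modules.restrictAdjunction j
  let r := Scheme.Modules.restrictFunctor j
  have : IsIso (r.map (adj.unit.app F)) := by
    have h := adj.left_triangle_components F
    have : IsIso (r.map (adj.unit.app F) ≫ adj.counit.app (r.obj F)) := h.symm ▸ inferInstance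
    exact IsIso.of_isIso_comp_right _ (adj.counit.app (r.obj F))
  exact (isZero_kernel_of_mono (r.map (adj.unit.app F))).of_iso (PreservesKernel.iso r (adj.unit.app F))

theorem isZero_restrictD_Γc (I : CochainComplex X.Modules ℤ) :
    IsZero ((DCoh.restrictD j).obj (Q.obj ((Γc j).obj I))) := by
  refine IsZero.of_iso ?_ ((Scheme.Modules.restrictFunctor j).mapDerivedCategoryFactors.app _)
  refine DerivedCategory.Q.map_isZero ?_
  rw [IsZero.iff_id_eq_zero]
  exact HomologicalComplex.hom_ext _ _ fun n => (isZero_restrict_gammaZ j (I.X n)).eq_of_src _ _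

theorem isKInjective_restrict (I : CochainComplex X.Modules ℤ) [I.IsKInjective] :
    CochainComplex.IsKInjective ((rC j).obj I) := by
  let V := j.opensRange
  let e : U ≅ (V : Scheme.{u}) := j.isoOpensRange
  have := ExtZero.isKInjective_restrict V I
  let adj : Scheme.Modules.restrictFunctor e.inv ⊣ Scheme.Modules.restrictFunctor e.hom :=
    (Scheme.Modules.restrictAdjunction e.inv).ofNatIsoRight (PCohD.pushRestrictInv e.symm)
  have h := Groth.Agent.S0481.result _ _ adj ((DCoh.restrictCx V).obj I) inferInstance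
  have : CochainComplex.IsKInjective ((PerfTri.Nullhom.resC V.ι ⋙ PerfTri.Nullhom.resC e.hom).obj I) := h
  exact CochainComplex.isKInjective_of_iso ((PerfTri.Nullhom.resCompIso e.hom V.ι j (Scheme.Hom.isoOpensRange_hom_ι j)).app I)

/-- the local third term -/
theorem local_push (I : CochainComplex X.Modules ℤ) [I.IsKInjective] :
    Local j (Q.obj ((pushCx j).obj ((rC j).obj I))) := by
  intro Y hY y
  have hW := isKInjective_restrict j I
  let adj := CxAdj.mapCx (Scheme.Modules.restrictAdjunction j) (ComplexShape.up ℤ)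
  have hK : ((pushCx j).obj ((rC j).obj I)).IsKInjective :=
    Groth.Agent.S0481.result _ _ (Scheme.Modules.restrictAdjunction j) ((rC j).obj I) hW
  let P := Q.objPreimage Y
  let eP : Q.obj P ≅ Y := Q.objObjPreimageIso Y
  have hP : IsZero (Q.obj ((rC j).obj P)) :=
    hY.of_iso (((Scheme.Modules.restrictFunctor j).mapDerivedCategoryFactors.app P).symm ≪≫
      (DCoh.restrictD j).mapIso eP)
  refine (cancel_epi eP.hom).1 ?_
  rw [comp_zero]
  generalize eP.hom ≫ y = z
  obtain ⟨φ, rfl⟩ := Groth.Agent.DHA.KInj.Q_map_surjective P ((pushCx j).obj ((rC j).obj I)) z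
  let φ' := (adj.homEquiv P ((rC j).obj I)).symm φ
  obtain ⟨hh⟩ := Groth.Agent.DHA.KInj.homotopy_of_Q_map_eq (f := φ') (g := 0) (hP.eq_of_src _ _)
  have e : φ = adj.unit.app P ≫ (pushCx j).map φ' :=
    ((adj.homEquiv P ((rC j).obj I)).apply_symm_apply φ).symm.trans (adj.homEquiv_unit P _ φ')
  rw [e, Groth.Agent.DHA.KInj.Q_map_eq_of_homotopy (((Scheme.Modules.pushforward j).mapHomotopy hh).compLeft _),
    Functor.map_zero, comp_zero, Functor.map_zero]

variable [CxOX.HasRgammaZ j]

/-- the structure theorem -/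
theorem exists_triangle (K : DCoh.D X) :
    IsZero ((DCoh.restrictD j).obj ((CxOX.RgammaZ j).obj K)) ∧
    ∃ (C : DCoh.D X) (g : K ⟶ C) (d : C ⟶ ((CxOX.RgammaZ j).obj K)⟦(1 : ℤ)⟧),
      Triangle.mk ((CxOX.RgammaZToId j).app K) g d ∈ distinguishedTriangles ∧ Local j C := by
  let W := HomotopyCategory.quasiIso X.Modules (ComplexShape.up ℤ)
  let α := (CxOX.gammaZKh j).totalRightDerivedUnit DerivedCategory.Qh W
  let q := HomotopyCategory.quotient X.Modules (ComplexShape.up ℤ)
  let I := (RPush.injRes X).obj (Q.objPreimage K)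
  have hI : ∀ n, Injective (I.X n) := fun n => inferInstance
  have : IsIso (α.app (q.obj I)) :=
    RightDerived.HasEnough.isIso_app (W := W) (CxOX.RgammaZ j) α (RightDerived.hasEnough (CxOX.gammaZKh j))
      (RightDerived.isGood_quotient (CxOX.gammaZKh j) I)
  let c := DerivedCategory.quotientCompQhIso X.Modules
  let e : Qh.obj (q.obj I) ≅ K := c.app I ≪≫ RPush.injQIso.app (Q.objPreimage K) ≪≫ Q.objObjPreimageIso K
  let u : Q.obj ((Γc j).obj I) ≅ (CxOX.RgammaZ j).obj K :=
    (c.app ((Γc j).obj I)).symm ≪≫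
      DerivedCategory.Qh.mapIso (((DCoh.gammaZ j).mapHomotopyCategoryFactors (ComplexShape.up ℤ)).app I).symm ≪≫
      (@asIso _ _ _ _ (α.app (q.obj I)) this) ≪≫ (CxOX.RgammaZ j).mapIso e
  have hu : u.hom ≫ (CxOX.RgammaZToId j).app K = Q.map (incl j I) ≫ c.inv.app I ≫ e.hom := by
    have hfac : α.app (q.obj I) ≫ (CxOX.RgammaZToId j).app (Qh.obj (q.obj I)) = (CxOX.gammaZKhι j).app (q.obj I) := by
      refine ((CxOX.RgammaZ j).rightDerived_fac_app α W (𝟭 _) _ (q.obj I)).trans ?_
      exact Category.comp_id _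
    have hι : (CxOX.gammaZKhι j).app (q.obj I) =
        Qh.map (((DCoh.gammaZ j).mapHomotopyCategoryFactors (ComplexShape.up ℤ)).hom.app I) ≫
          Qh.map (q.map (incl j I)) := by
      change (𝟙 _ ≫ Qh.map (((DCoh.gammaZ j).mapHomotopyCategoryFactors (ComplexShape.up ℤ)).hom.app I) ≫ 𝟙 _ ≫
        Qh.map (q.map ((NatTrans.mapHomologicalComplex (CxOX.gammaZι j) (ComplexShape.up ℤ)).app I)) ≫
        Qh.map (q.map ((Functor.mapHomologicalComplexIdIso X.Modules (ComplexShape.up ℤ)).hom.app I)) ≫ 𝟙 _) = _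
      simp only [Category.id_comp, Category.comp_id]
      refine congrArg (_ ≫ ·) ?_
      refine (Qh.map_comp _ _).symm.trans (congrArg Qh.map ?_)
      exact (q.map_comp _ _).symm.trans (congrArg q.map (HomologicalComplex.hom_ext _ _ fun n => Category.comp_id _))
    have hn : (CxOX.RgammaZ j).map e.hom ≫ (CxOX.RgammaZToId j).app K =
        (CxOX.RgammaZToId j).app (Qh.obj (q.obj I)) ≫ e.hom := (CxOX.RgammaZToId j).naturality e.hom
    have hc : c.inv.app ((Γc j).obj I) ≫ Qh.map (q.map (incl j I)) = Q.map (incl j I) ≫ c.inv.app I :=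
      (c.inv.naturality (incl j I)).symm
    simp only [u, Iso.trans_hom, Iso.symm_hom, Iso.app_inv, Functor.mapIso_hom, asIso_hom, Category.assoc]
    rw [hn, reassoc_of% hfac, hι, Category.assoc, ← Functor.map_comp_assoc, Iso.inv_hom_id_app]
    refine (congrArg (fun z => c.inv.app ((Γc j).obj I) ≫ z)
      ((congrArg (fun z => z ≫ (Qh.map (q.map (incl j I)) ≫ e.hom)) (Qh.map_id _)).trans (Category.id_comp _))).trans ?_
    exact (Category.assoc _ _ _).symm.trans ((congrArg (· ≫ e.hom) hc).trans (Category.assoc _ _ _))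
  refine ⟨(isZero_restrictD_Γc j I).of_iso ((DCoh.restrictD j).mapIso u.symm), ?_⟩
  let e' : Q.obj I ≅ K := c.symm.app I ≪≫ e
  let T := DerivedCategory.triangleOfSES (shortExact_supSeq j I hI)
  let C : DCoh.D X := Q.obj ((pushCx j).obj ((rC j).obj I))
  refine ⟨C, e'.inv ≫ Q.map (ηc j I), DerivedCategory.triangleOfSESδ (shortExact_supSeq j I hI) ≫ u.hom⟦(1 : ℤ)⟧',
    isomorphic_distinguished T (DerivedCategory.triangleOfSES_distinguished _) _
      (Triangle.isoMk _ T u.symm e'.symm (Iso.refl _) ?_ ?_ ?_), local_push j I⟩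
  · change (CxOX.RgammaZToId j).app K ≫ e'.inv = u.inv ≫ Q.map (incl j I)
    rw [Iso.comp_inv_eq, Category.assoc, Iso.eq_inv_comp]
    exact hu
  · exact Category.comp_id _
  · refine Eq.trans ?_ (Category.id_comp _).symm
    change (DerivedCategory.triangleOfSESδ (shortExact_supSeq j I hI) ≫ u.hom⟦(1 : ℤ)⟧') ≫
      (shiftFunctor (DCoh.D X) (1 : ℤ)).map u.inv = DerivedCategory.triangleOfSESδ (shortExact_supSeq j I hI)
    refine (Category.assoc _ _ _).trans ?_
    refine (congrArg (DerivedCategory.triangleOfSESδ (shortExact_supSeq j I hI) ≫ ·)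
      (((shiftFunctor (DCoh.D X) (1 : ℤ)).map_comp u.hom u.inv).symm.trans
        ((congrArg _ u.hom_inv_id).trans ((shiftFunctor (DCoh.D X) (1 : ℤ)).map_id _)))).trans ?_
    exact Category.comp_id _

theorem isZero_restrict_RgammaZ (K : DCoh.D X) : IsZero ((DCoh.restrictD j).obj ((CxOX.RgammaZ j).obj K)) :=
  (exists_triangle j K).1

/-- maps from supported objects lift uniquely -/
theorem bijective (K : DCoh.D X) {Y : DCoh.D X} (hY : IsZero ((DCoh.restrictD j).obj Y)) :
    Function.Bijective fun φ : Y ⟶ (CxOX.RgammaZ j).obj K => φ ≫ (CxOX.RgammaZToId j).app K := by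
  obtain ⟨C, g, d, hT, hC⟩ := (exists_triangle j K).2
  refine ⟨fun a b hab => ?_, fun ψ => ?_⟩
  · rw [← sub_eq_zero]
    have h0 : (a - b) ≫ (CxOX.RgammaZToId j).app K = 0 := by
      rw [Preadditive.sub_comp]; exact sub_eq_zero.2 hab
    obtain ⟨w, hw⟩ := Triangle.coyoneda_exact₂ _ (inv_rot_of_distTriang _ hT) (a - b) h0
    have hY' : IsZero ((DCoh.restrictD j).obj (Y⟦(1 : ℤ)⟧)) :=
      ((shiftFunctor (DCoh.D U) (1 : ℤ)).map_isZero hY).of_iso (((DCoh.restrictD j).commShiftIso (1 : ℤ)).app Y)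
    have hw0 : w = 0 := (shiftFunctor (DCoh.D X) (1 : ℤ)).map_injective
      ((cancel_mono ((shiftFunctorCompIsoId (DCoh.D X) (-1 : ℤ) 1 (by omega)).hom.app C)).1
        ((hC _ hY' _).trans (hC _ hY' _).symm))
    rw [hw, hw0]; exact zero_comp
  · exact (Triangle.coyoneda_exact₂ _ hT ψ (hC _ hY _)).imp fun _ h => h.symm

/-- recognising `RΓ_Z`: a lift of the inclusion of a supported object with local cone is an isomorphism -/
theorem isIso_lift {K S C : DCoh.D X} (a : S ⟶ K) (g : K ⟶ C) (d : C ⟶ S⟦(1 : ℤ)⟧)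
    (hT : Triangle.mk a g d ∈ distinguishedTriangles) (hS : IsZero ((DCoh.restrictD j).obj S)) (hC : Local j C)
    (α : S ⟶ (CxOX.RgammaZ j).obj K) (hα : α ≫ (CxOX.RgammaZToId j).app K = a) : IsIso α := by
  have hR := isZero_restrict_RgammaZ j K
  obtain ⟨β, hβ⟩ : ∃ β : (CxOX.RgammaZ j).obj K ⟶ S, (CxOX.RgammaZToId j).app K = β ≫ a :=
    Triangle.coyoneda_exact₂ _ hT _ (hC _ hR _)
  refine ⟨β, ?_, (bijective j K hR).1 ?_⟩
  · rw [← sub_eq_zero]
    have h0 : (α ≫ β - 𝟙 S) ≫ a = 0 := by
      rw [Preadditive.sub_comp, Category.assoc, ← hβ, hα, Category.id_comp, sub_self]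
    obtain ⟨w, hw⟩ := Triangle.coyoneda_exact₂ _ (inv_rot_of_distTriang _ hT) (α ≫ β - 𝟙 S) h0
    have hS' : IsZero ((DCoh.restrictD j).obj (S⟦(1 : ℤ)⟧)) :=
      ((shiftFunctor (DCoh.D U) (1 : ℤ)).map_isZero hS).of_iso (((DCoh.restrictD j).commShiftIso (1 : ℤ)).app S)
    have hw0 : w = 0 := (shiftFunctor (DCoh.D X) (1 : ℤ)).map_injective
      ((cancel_mono ((shiftFunctorCompIsoId (DCoh.D X) (-1 : ℤ) 1 (by omega)).hom.app C)).1
        ((hC _ hS' _).trans (hC _ hS' _).symm))
    rw [hw, hw0]; exact zero_comp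
  · change (β ≫ α) ≫ _ = 𝟙 _ ≫ _
    rw [Category.assoc, hα, ← hβ, Category.id_comp]

end Groth.Agent.GammaLib
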