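import Groth.Agent.GammaLib.Local
import Groth.Agent.CohDerLib.Kosz.Orth
import Groth.Agent.DRing.ExtCech
import Groth.Agent.LocCohSweep.ExtCech

/-!
# The extended Čech complex computes sections with support
-/

set_option autoImplicit false
set_option backward.isDefEq.respectTransparency.types false

universe u

open CategoryTheory CategoryTheory.Limits AlgebraicGeometry Pretriangulated DerivedCategory
open Groth.Agent.CohDerLib

attribute [local instance] HasDerivedCategory.standard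
attribute [-instance] CategoryTheory.ReflQuiver.toQuiver

noncomputable section

namespace Groth.Agent.GammaLib.ExtCech

variable {A : Type u} [CommRing A]

/-- multiplication by `f` bijective on cohomology kills maps from the Koszul object -/
theorem hom_KD_eq_zero {f : A} {N : DerivedCategory (ModuleCat.{u} A)}
    (h : ∀ m : ℤ, Function.Bijective fun x : (homologyFunctor (ModuleCat.{u} A) m).obj N => f • x)
    (n : ℤ) (φ : (Kosz.KD [f])⟦n⟧ ⟶ N) : φ = 0 := by
  have : IsIso (f • 𝟙 N) := by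
    rw [DerivedCategory.isIso_iff]
    intro m
    rw [Kosz.homology_smul_id]
    exact (ConcreteCategory.isIso_iff_bijective _).2 (h m)
  have key : ∀ {Z : DerivedCategory (ModuleCat.{u} A)} (χ : Z ⟶ N), f • χ = 0 → χ = 0 := fun χ hχ =>
    (cancel_mono (f • 𝟙 N)).1 (by rw [zero_comp, Linear.comp_smul, Category.comp_id, hχ])
  have hz : ∀ k : ℤ, f • Kosz.m₂ f [] k = 0 := fun k => by
    have h12 := comp_distTriang_mor_zero₁₂ (Kosz.triS f [] k) (Kosz.triS_dist f [] k)
    have h' : (k.negOnePow • (f • 𝟙 ((Kosz.KD ([] : List A))⟦k⟧))) ≫ Kosz.m₂ f [] k = 0 :=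
      (congrArg (· ≫ Kosz.m₂ f [] k) (Kosz.triS_mor₁ f [] k)).symm.trans h12
    rw [Linear.units_smul_comp, Linear.smul_comp, Category.id_comp] at h'
    exact (smul_eq_zero_iff_eq _).1 h'
  obtain ⟨ψ, hψ⟩ := Kosz.exists_factor₃ φ
    (key (Kosz.m₂ f [] n ≫ φ) (by rw [← Linear.smul_comp, hz, zero_comp]))
  have h3 : f • Kosz.m₃ f [] n = 0 := by
    have h31 := comp_distTriang_mor_zero₃₁ (Kosz.triS f [] n) (Kosz.triS_dist f [] n)
    have h' : (Kosz.triS f [] n).mor₃ ≫
        (n.negOnePow • (f • 𝟙 ((Kosz.KD ([] : List A))⟦n⟧)))⟦(1 : ℤ)⟧' = 0 :=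
      (congrArg (fun x => (Kosz.triS f [] n).mor₃ ≫ x⟦(1 : ℤ)⟧') (Kosz.triS_mor₁ f [] n)).symm.trans h31
    have e1 : (n.negOnePow • (f • 𝟙 ((Kosz.KD ([] : List A))⟦n⟧)))⟦(1 : ℤ)⟧' =
        n.negOnePow • (f • 𝟙 (((Kosz.KD ([] : List A))⟦n⟧)⟦(1 : ℤ)⟧)) := by
      rw [Units.smul_def, Units.smul_def, Functor.map_zsmul, Functor.map_smul, CategoryTheory.Functor.map_id]
    let m : (Kosz.KD [f])⟦n⟧ ⟶ ((Kosz.KD ([] : List A))⟦n⟧)⟦(1 : ℤ)⟧ := (Kosz.triS f [] n).mor₃
    have h2 : m ≫ (n.negOnePow • (f • 𝟙 (((Kosz.KD ([] : List A))⟦n⟧)⟦(1 : ℤ)⟧))) = 0 :=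
      (congrArg (m ≫ ·) e1.symm).trans h'
    rw [Linear.comp_units_smul, Linear.comp_smul, Category.comp_id] at h2
    have h'' : f • m = 0 := (smul_eq_zero_iff_eq _).1 h2
    change f • (m ≫ _) = 0
    rw [← Linear.smul_comp, h'']
    exact zero_comp
  rw [hψ]
  refine key _ ?_
  rw [← Linear.smul_comp, h3, zero_comp]

theorem hTors_extCech (M : ModuleCat.{u} A) (fs : List A) {g : A} (hg : g ∈ fs) :
    Kosz.HTors g (DRing.toD (DerCA.extCech M fs)) := fun m x => by
  let e := ((homologyFunctorFactors (ModuleCat.{u} A) m).app (DerCA.extCech M fs)).toLinearEquiv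
  obtain ⟨k, hk⟩ := Groth.Agent.DRing.ExtCech.exists_pow_of_mem M fs hg m (e x)
  exact ⟨k, e.injective (by rw [map_smul, map_zero]; exact hk)⟩

variable [PreservesFiniteLimits (tilde.functor (CommRingCat.of A))]

theorem isQCohD_tildeD (N : DerivedCategory (ModuleCat.{u} A)) :
    DCoh.IsQCohD ((DCoh.tildeD (CommRingCat.of A)).obj N) :=
  KFlat.TildeD.isQCohD_tildeD (R := CommRingCat.of A) N

/-- objects on which `f` is invertible are local for `D(f)` -/
theorem local_of_bijective {f : A} (N : DerivedCategory (ModuleCat.{u} A))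
    (h : ∀ m : ℤ, Function.Bijective fun x : (homologyFunctor (ModuleCat.{u} A) m).obj N => f • x) :
    Local (Kosz.U [f]).ι ((DCoh.tildeD (CommRingCat.of A)).obj N) := by
  have := KFlat.RPush.hasRpush (Kosz.U [f]).ι
  obtain ⟨adj⟩ := PerfExt.exists_adj (X := Spec (CommRingCat.of A)) (Kosz.U [f]).ι
  obtain ⟨T, hT, hN, hC, horth, hiff⟩ := Kosz.exists_model [f] adj _ (isQCohD_tildeD N)
  have ho : ∀ (n : ℤ) (φ : (Kosz.KD [f])⟦n⟧ ⟶ T.obj₂), φ = 0 := fun n => (horth n).1
    ((Kosz.tildeD_hom_iff (R := CommRingCat.of A) (Iso.refl _) (Kosz.KD [f]) n).2 (hom_KD_eq_zero h n))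
  have : IsIso (adj.unit.app ((DCoh.tildeD (CommRingCat.of A)).obj N)) := by
    rw [DerivedCategory.isIso_iff]
    exact fun i => (hiff i).2 (Kosz.isIso_of_orth_le [f] T hT hN hC (i + 1) (fun n _ => ho (-n)) i (by omega))
  exact local_of_iso _ (asIso (adj.unit.app ((DCoh.tildeD (CommRingCat.of A)).obj N))).symm (local_Rpush _ adj _)

theorem local_mono {X : Scheme.{u}} {W W' : X.Opens} (hle : W ≤ W') {C : DCoh.D X} (h : Local W.ι C) :
    Local W'.ι C := fun Y hY => h Y (PerfExt.isZero_restrict_of_range W' W.ι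
      (by rw [Scheme.Opens.range_ι]; exact hle) hY)

/-- the cone of the augmentation is local -/
theorem exists_cone (M : ModuleCat.{u} A) (fs : List A) :
    ∃ (a : (DCoh.tildeD (CommRingCat.of A)).obj (DRing.toD (DerCA.extCech M fs)) ⟶
        (DCoh.tildeD (CommRingCat.of A)).obj (Dual.inD A M))
      (C : DCoh.D (Spec (CommRingCat.of A))) (g : (DCoh.tildeD (CommRingCat.of A)).obj (Dual.inD A M) ⟶ C)
      (d : C ⟶ _), Triangle.mk a g d ∈ distinguishedTriangles ∧ Local (Kosz.U fs).ι C := by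
  induction fs with
  | nil =>
    let a := (DCoh.tildeD (CommRingCat.of A)).map
      (((SingleFunctors.evaluation _ _ 0).mapIso (singleFunctorsPostcompQIso (ModuleCat.{u} A))).app M).inv
    obtain ⟨C, g, d, hT⟩ := distinguished_cocone_triangle a
    exact ⟨a, C, g, d, hT, fun Y _ φ => ((Triangle.isZero₃_iff_isIso₁ _ hT).2
      (inferInstanceAs (IsIso a))).eq_of_tgt _ _⟩
  | cons f fs ih =>
    obtain ⟨a, C, g, d, hT, hC⟩ := ih
    let u := DerCA.locCxUnit (Submonoid.powers f) (DerCA.extCech M fs)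
    let Tu := Q.mapTriangle.obj (CochainComplex.mappingCocone.triangle u)
    have hTu := (DCoh.tildeD (CommRingCat.of A)).map_distinguished _
      (DerivedCategory.mappingCocone_triangle_distinguished u)
    let a' : (DCoh.tildeD (CommRingCat.of A)).obj (DRing.toD (DerCA.extCech M (f :: fs))) ⟶
        (DCoh.tildeD (CommRingCat.of A)).obj (Dual.inD A M) :=
      (DCoh.tildeD (CommRingCat.of A)).map Tu.mor₁ ≫ a
    obtain ⟨C', g', d', hT'⟩ := distinguished_cocone_triangle a'
    let O := Triangulated.someOctahedron rfl hTu hT hT'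
    have hle₁ : Kosz.U [f] ≤ Kosz.U (f :: fs) := fun p hp => by
      obtain ⟨x, hx, hxp⟩ := Kosz.exists_not_mem [f] hp
      rw [List.mem_singleton] at hx
      exact Kosz.basicOpen_le_U (f :: fs) (by simp [hx]) hxp
    have hle₂ : Kosz.U fs ≤ Kosz.U (f :: fs) := fun p hp => by
      obtain ⟨x, hx, hxp⟩ := Kosz.exists_not_mem fs hp
      exact Kosz.basicOpen_le_U (f :: fs) (List.mem_cons_of_mem f hx) hxp
    have hL : Local (Kosz.U [f]).ι ((DCoh.tildeD (CommRingCat.of A)).obj Tu.obj₃) :=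
      local_of_bijective _ fun m => by
        let e := ((homologyFunctorFactors (ModuleCat.{u} A) m).app
          ((DerCA.locCx (Submonoid.powers f)).obj (DerCA.extCech M fs))).toLinearEquiv
        have hb := Groth.Agent.LocCohSweep.ExtCech.bijective_smul_homology_loc f (DerCA.extCech M fs) m
        refine ⟨fun x y hxy => e.injective (hb.1 (((map_smul e f x).symm.trans (congrArg e hxy)).trans (map_smul e f y))), fun y => ?_⟩
        obtain ⟨z, hz⟩ := hb.2 (e y)
        exact ⟨e.symm z, e.injective ((map_smul e f (e.symm z)).trans ((congrArg (f • ·) (e.apply_symm_apply z)).trans hz))⟩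
    refine ⟨a', C', g', d', hT', fun Y hY φ => ?_⟩
    obtain ⟨ψ, hψ⟩ : ∃ ψ, φ = ψ ≫ O.m₁ := Triangle.coyoneda_exact₂ _ O.mem φ (local_mono hle₂ hC Y hY _)
    rw [hψ, local_mono hle₁ hL Y hY ψ]
    exact zero_comp

theorem nonempty_iso (M : ModuleCat.{u} A) (fs : List A) [CxOX.HasRgammaZ (Kosz.U fs).ι] :
    Nonempty ((DCoh.tildeD (CommRingCat.of A)).obj (DRing.toD (DerCA.extCech M fs)) ≅
      (CxOX.RgammaZ (Kosz.U fs).ι).obj ((DCoh.tildeD (CommRingCat.of A)).obj (Dual.inD A M))) := by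
  obtain ⟨a, C, g, d, hT, hC⟩ := exists_cone M fs
  let Z := (DCoh.restrictD (Kosz.U fs).ι).obj
    ((DCoh.tildeD (CommRingCat.of A)).obj (DRing.toD (DerCA.extCech M fs)))
  have hz : IsZero Z := by
    have hh : ∀ i, IsZero ((homologyFunctor _ i).obj Z) := fun i =>
      (Kosz.isZero_restrict_of_tors fs fun g hg x => hTors_extCech M fs hg i x).of_iso
        (Kosz.homologyRestrictTildeIso fs _ i)
    have : IsIso (0 : Z ⟶ Z) := by
      rw [DerivedCategory.isIso_iff]
      exact fun i => isIso_of_isInitial (hh i).isInitial (hh i).isInitial _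
    rw [IsZero.iff_id_eq_zero]
    exact (cancel_epi (0 : Z ⟶ Z)).1 (by simp)
  obtain ⟨α, hα⟩ := (bijective (Kosz.U fs).ι _ hz).2 a
  have := isIso_lift (Kosz.U fs).ι a g d hT hz hC α hα
  exact ⟨asIso α⟩

end Groth.Agent.GammaLib.ExtCech
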