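import Groth.Agent.KFlat.DerivedAdj
import Groth.Agent.KFlat.FlatPull

/-!
# The derived inverse image along a flat morphism is triangulated
-/

set_option autoImplicit false

universe u

open CategoryTheory CategoryTheory.Limits AlgebraicGeometry Pretriangulated DerivedCategory
open Groth.Agent.KFlat Groth.Agent.KFlat.Pull

attribute [local instance] HasDerivedCategory.standard

noncomputable section

namespace Groth.Agent.GammaLib

variable {X Y : Scheme.{u}} (f : X ⟶ Y) [Flat f] [DCoh.HasLpull f]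

theorem isIso_toPull_flat (K : CochainComplex Y.Modules ℤ) : IsIso ((toPull f).app K) := by
  have := quasiIso_resYπ (Y := Y) K
  let s := (resYπ Y).app K
  have := isIso_toPull f (isKFlat_resY K)
  have h2 : IsIso ((pullQ f).map s) := by
    have : QuasiIso (((Scheme.Modules.pullback f).mapHomologicalComplex (ComplexShape.up ℤ)).map s) := inferInstance
    exact inferInstanceAs (IsIso (DerivedCategory.Q.map _))
  have h3 : IsIso ((DerivedCategory.Q ⋙ DCoh.Lpull f).map s) :=
    inferInstanceAs (IsIso ((DCoh.Lpull f).map (DerivedCategory.Q.map s)))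
  have h := (toPull f).naturality s
  have : IsIso ((DerivedCategory.Q ⋙ DCoh.Lpull f).map s ≫ (toPull f).app K) :=
    (congrArg (fun φ => IsIso φ) h).mpr (IsIso.comp_isIso' (isIso_toPull f (isKFlat_resY K)) h2)
  exact IsIso.of_isIso_comp_left ((DerivedCategory.Q ⋙ DCoh.Lpull f).map s) _

/-- for flat `f` the derived inverse image is the exact one -/
theorem nonempty_Lpull_iso : Nonempty (DCoh.Lpull f ≅ (Scheme.Modules.pullback f).mapDerivedCategory) := by
  have : ∀ K, IsIso ((toPull f).app K) := isIso_toPull_flat f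
  have : IsIso (toPull f) := NatIso.isIso_of_isIso_app _
  exact ⟨Localization.liftNatIso DerivedCategory.Q (HomologicalComplex.quasiIso Y.Modules (ComplexShape.up ℤ))
    (DerivedCategory.Q ⋙ DCoh.Lpull f) (DerivedCategory.Q ⋙ (Scheme.Modules.pullback f).mapDerivedCategory) _ _
    (asIso (toPull f) ≪≫ (Scheme.Modules.pullback f).mapDerivedCategoryFactors.symm)⟩

/-- the derived inverse image along a flat morphism preserves distinguished triangles -/
theorem distinguished_Lpull (T : Triangle (DCoh.D Y)) (hT : T ∈ distinguishedTriangles) :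
    ∃ δ, Triangle.mk ((DCoh.Lpull f).map T.mor₁) ((DCoh.Lpull f).map T.mor₂) δ ∈ distinguishedTriangles := by
  obtain ⟨e⟩ := nonempty_Lpull_iso f
  let M := (Scheme.Modules.pullback f).mapDerivedCategory
  let T' := M.mapTriangle.obj T
  refine ⟨(e.app T.obj₃).hom ≫ T'.mor₃ ≫ (e.app T.obj₁).inv⟦(1 : ℤ)⟧',
    isomorphic_distinguished T' (M.map_distinguished T hT) _
      (Triangle.isoMk _ T' (e.app T.obj₁) (e.app T.obj₂) (e.app T.obj₃) (e.hom.naturality T.mor₁)
        (e.hom.naturality T.mor₂) ?_)⟩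
  change ((e.app T.obj₃).hom ≫ T'.mor₃ ≫ (e.app T.obj₁).inv⟦(1 : ℤ)⟧') ≫ (e.app T.obj₁).hom⟦(1 : ℤ)⟧' =
    (e.app T.obj₃).hom ≫ T'.mor₃
  have h1 : (e.app T.obj₁).inv⟦(1 : ℤ)⟧' ≫ (e.app T.obj₁).hom⟦(1 : ℤ)⟧' = 𝟙 _ := by
    rw [← Functor.map_comp, Iso.inv_hom_id, CategoryTheory.Functor.map_id]
  refine (Category.assoc _ _ _).trans (congrArg ((e.app T.obj₃).hom ≫ ·) ?_)
  exact (Category.assoc _ _ _).trans ((congrArg (T'.mor₃ ≫ ·) h1).trans (Category.comp_id _))

end Groth.Agent.GammaLib
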