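import Groth.Agent.GammaLib.TorsRes
import Groth.Agent.KFlat.ApproxAffine
import Groth.Agent.KFlat.TildePC
import Groth.Agent.KFlat.CohExtend
import Groth.Agent.Props.QProj

/-!
# Pseudo-coherent objects on a quasi-compact open of an affine scheme extend to finite free complexes
-/

set_option autoImplicit false

universe u

open CategoryTheory CategoryTheory.Limits AlgebraicGeometry Pretriangulated TopologicalSpace
open Groth.Agent.CohDerLib.Kosz Groth.Agent.PerfExt Groth.Agent.PerfTri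

attribute [local instance] HasDerivedCategory.standard
attribute [-instance] CategoryTheory.ReflQuiver.toQuiver

noncomputable section

namespace Groth.Agent.GammaLib.FreeExtend

variable {X : Scheme.{u}} [IsAffine X]

theorem exists_fs (U : X.Opens) (hU : IsCompact (U : Set X)) :
    ∃ fs : List Γ(X, ⊤), Groth.Agent.CohDerLib.Kosz.U fs = X.isoSpec.inv ⁻¹ᵁ U := by
  classical
  let A := Γ(X, ⊤)
  let U' : (Spec (CommRingCat.of A)).Opens := X.isoSpec.inv ⁻¹ᵁ U
  have hc : IsCompact (U' : Set (Spec (CommRingCat.of A))) :=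
    QuasiCompact.isCompact_preimage (f := X.isoSpec.inv) _ U.isOpen hU
  obtain ⟨s, hsf, hs⟩ := (isCompact_open_iff_eq_finite_iUnion_of_isTopologicalBasis _
    PrimeSpectrum.isTopologicalBasis_basic_opens PrimeSpectrum.isCompact_basicOpen _).1 ⟨hc, U'.isOpen⟩
  refine ⟨hsf.toFinset.toList, ?_⟩
  rw [Groth.Agent.CohDerLib.Kosz.U_eq]
  apply Opens.ext
  rw [Opens.coe_iSup]
  refine Eq.trans ?_ hs.symm
  ext p
  simp only [Set.mem_iUnion]
  constructor
  · rintro ⟨⟨a, ha⟩, hp⟩; exact ⟨a, by simpa using ha, hp⟩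
  · rintro ⟨a, ha, hp⟩; exact ⟨⟨a, by simpa using ha⟩, hp⟩

/-- `~` of finite free modules are free -/
theorem exists_freeMod_tilde (M : ModuleCat.{u} Γ(X, ⊤)) (h : Module.Finite Γ(X, ⊤) M ∧ Module.Free Γ(X, ⊤) M) :
    ∃ n, Nonempty ((Scheme.Modules.restrictFunctor X.isoSpec.hom).obj
      ((tilde.functor (CommRingCat.of Γ(X, ⊤))).obj M) ≅ FlatMod.freeMod X n) := by
  classical
  obtain ⟨h1, h2⟩ := h
  let ι := Module.Free.ChooseBasisIndex Γ(X, ⊤) M
  rcases subsingleton_or_nontrivial Γ(X, ⊤) with hA | hA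
  · refine ⟨0, ⟨(Scheme.Modules.restrictFunctor X.isoSpec.hom).mapIso
      ((tilde.functor (CommRingCat.of Γ(X, ⊤))).mapIso
        (show M ≅ ModuleCat.of Γ(X, ⊤) (ULift.{u} (Fin 0) →₀ Γ(X, ⊤)) from
          LinearEquiv.toModuleIso
            (have : Subsingleton M := Module.subsingleton Γ(X, ⊤) M
             LinearEquiv.ofSubsingleton M _)) ≪≫
        tildeFinsupp (R := CommRingCat.of Γ(X, ⊤)) _) ≪≫
      Props.QProj.restrictFreeIso X.isoSpec.hom _ ≪≫ Props.QProj.freeModIso X 0⟩⟩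
  · let e := (Module.Free.chooseBasis Γ(X, ⊤) M).reindex
      ((Fintype.equivFin ι).trans Equiv.ulift.{u}.symm)
    exact ⟨Fintype.card ι, ⟨(Scheme.Modules.restrictFunctor X.isoSpec.hom).mapIso
      ((tilde.functor (CommRingCat.of Γ(X, ⊤))).mapIso (show M ≅ ModuleCat.of Γ(X, ⊤) _ from e.repr.toModuleIso) ≪≫
        tildeFinsupp (R := CommRingCat.of Γ(X, ⊤)) _) ≪≫
      Props.QProj.restrictFreeIso X.isoSpec.hom _ ≪≫ Props.QProj.freeModIso X _⟩⟩

theorem pc_loc (U : X.Opens) (fs : List Γ(X, ⊤))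
    (hfs : Groth.Agent.CohDerLib.Kosz.U fs = X.isoSpec.inv ⁻¹ᵁ U)
    (K : DRing.Cx Γ(X, ⊤)) (a : Γ(X, ⊤)) (ha : a ∈ fs)
    (hK : ∀ m, DCoh.IsPseudoCoherentD m ((DCoh.restrictD U.ι).obj ((T X).obj (DerivedCategory.Q.obj K))))
    (m : ℤ) : DRing.IsPseudoCoherent (Localization.Away a) m (DRing.toD (TorsRes.locCx a K)) := by
  let A : CommRingCat.{u} := CommRingCat.of Γ(X, ⊤)
  let e := X.isoSpec
  let j : Spec (KFlat.TildePerfect.Af (A := A) a) ⟶ Spec A := KFlat.TildePerfect.jf (A := A) a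
  have hle : (PrimeSpectrum.basicOpen a : (Spec A).Opens) ≤ e.inv ⁻¹ᵁ U := by
    rw [← hfs, Groth.Agent.CohDerLib.Kosz.U_eq]
    exact le_iSup (fun i : {x : Γ(X, ⊤) // x ∈ fs} =>
      (PrimeSpectrum.basicOpen i.1 : (Spec (CommRingCat.of Γ(X, ⊤))).Opens)) ⟨a, ha⟩
  let l := IsOpenImmersion.lift U.ι (j ≫ e.inv) (by
    rintro _ ⟨z, rfl⟩
    rw [Scheme.Opens.range_ι, Scheme.Hom.comp_apply]
    exact hle ((KFlat.TildePerfect.range_jf (A := A) a).le ⟨z, rfl⟩))
  have : IsOpenImmersion l := by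
    have : IsOpenImmersion (l ≫ U.ι) := by rw [IsOpenImmersion.lift_fac]; infer_instance
    exact IsOpenImmersion.of_comp l U.ι
  have := KFlat.TildeExact.preservesFiniteLimits_tilde (KFlat.TildePerfect.Af (A := A) a)
  refine KFlat.TildePC.isPseudoCoherent_of_tildeD (A := KFlat.TildePerfect.Af (A := A) a) _ m ?_
  refine PCohD.pc_of_iso ?_ (PCohD.pc_restrict l (hK m))
  refine (restrictDComp l U.ι (j ≫ e.inv) (IsOpenImmersion.lift_fac _ _ _)).app _ ≪≫
    (restrictDComp (j ≫ e.inv) e.hom j ?_).app _ ≪≫ KFlat.TildePerfect.restrTildeDIso (A := A) a K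
  exact (Category.assoc _ _ _).trans ((congrArg (j ≫ ·) e.inv_hom_id).trans (Category.comp_id j))

theorem exists_free_extension (U : X.Opens) (hU : IsCompact (U : Set X))
    (E : DCoh.D (U : Scheme.{u})) (hE : ∀ m : ℤ, DCoh.IsPseudoCoherentD m E) :
    ∃ (G : CochainComplex X.Modules ℤ) (b : ℤ), (∀ i : ℤ, b < i → IsZero (G.X i)) ∧
      (∀ i : ℤ, ∃ n : ℕ, Nonempty (G.X i ≅ FlatMod.freeMod X n)) ∧
      Nonempty (DerivedCategory.Q.obj ((DCoh.restrictCx U).obj G) ≅ E) := by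
  let A : CommRingCat.{u} := CommRingCat.of Γ(X, ⊤)
  obtain ⟨fs, hfs⟩ := exists_fs U hU
  have hq : DCoh.IsQCohD E := fun i => (Groth.Agent.S7240.result (i - 1) E (hE (i - 1))).1 i (by omega)
  have : QuasiCompact U.ι := by
    have : CompactSpace (U : Scheme.{u}) := isCompact_iff_compactSpace.mp hU
    exact AlgebraicGeometry.quasiCompact_of_compactSpace U.ι
  obtain ⟨G₀, hG₀, -, ⟨e₀⟩⟩ := KFlat.CohExtend.exists_extension U E hq
  obtain ⟨M, ⟨eM⟩⟩ := exists_iso_T X hG₀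
  let K := DerivedCategory.Q.objPreimage M
  let eK : DerivedCategory.Q.obj K ≅ M := DerivedCategory.Q.objObjPreimageIso M
  let eE : (DCoh.restrictD U.ι).obj ((T X).obj (DerivedCategory.Q.obj K)) ≅ E :=
    (DCoh.restrictD U.ι).mapIso ((T X).mapIso eK ≪≫ eM) ≪≫ Perfect.restrQ U.ι G₀ ≪≫ e₀
  obtain ⟨P, π, b, hPb, hPf, hπ⟩ := TorsRes.exists_approx_free (K := K) (fs := fs)
    fun a ha => pc_loc U fs hfs K a ha fun m => PCohD.pc_of_iso eE.symm (hE m)
  have hT := (T X ⋙ DCoh.restrictD U.ι).map_distinguished _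
    (DerivedCategory.mappingCone_triangle_distinguished π)
  have hz : IsZero ((DCoh.restrictD U.ι).obj ((T X).obj
      (DerivedCategory.Q.obj (CochainComplex.mappingCone π)))) := by
    refine (KFlat.Approx.isZero_iff_of_eq U fs hfs _).2 fun a ha i x => ?_
    let ι := (DRing.DBasic.hIso (CochainComplex.mappingCone π) i).toLinearEquiv
    obtain ⟨k, hk⟩ := hπ a ha i (ι x)
    exact ⟨k, ι.injective ((ι.map_smul _ _).trans (hk.trans ι.map_zero.symm))⟩
  have : IsIso ((DCoh.restrictD U.ι).map ((T X).map (DerivedCategory.Q.map π))) :=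
    (Triangle.isZero₃_iff_isIso₁ _ hT).1 hz
  let G : CochainComplex X.Modules ℤ :=
    (Nullhom.resC X.isoSpec.hom).obj ((KFlat.TildePerfect.tCx A).obj P)
  refine ⟨G, b, fun i hi => ?_, fun i => exists_freeMod_tilde (P.X i) (hPf i), ⟨?_⟩⟩
  · exact (Scheme.Modules.restrictFunctor X.isoSpec.hom).map_isZero
      ((tilde.functor A).map_isZero (hPb i hi))
  · exact (Perfect.restrQ U.ι G).symm ≪≫ (DCoh.restrictD U.ι).mapIso
      ((Perfect.restrQ X.isoSpec.hom _).symm ≪≫ (DCoh.restrictD X.isoSpec.hom).mapIso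
        ((tilde.functor A).mapDerivedCategoryFactors.app P).symm) ≪≫
      @asIso _ _ _ _ ((DCoh.restrictD U.ι).map ((T X).map (DerivedCategory.Q.map π))) this ≪≫ eE

end Groth.Agent.GammaLib.FreeExtend
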