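import Groth.Agent.GammaLib.FreeExtend
import Groth.Agent.KFlat.ExtUniform
import Groth.Agent.DRing.Devissage
import Groth.Agent.DRing.Perfect
import Groth.Agent.ResK0.KerVb
import Groth.Agent.PerfExt.Thick

/-!
# Splitting a perfect object off a brutal truncation of its free extension
-/

set_option autoImplicit false

universe u

open CategoryTheory CategoryTheory.Limits AlgebraicGeometry Pretriangulated TopologicalSpace DerivedCategory
open Groth.Agent.CohDerLib.Kosz Groth.Agent.PerfExt Groth.Agent.PerfTri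

attribute [local instance] HasDerivedCategory.standard
attribute [-instance] CategoryTheory.ReflQuiver.toQuiver

noncomputable section

namespace Groth.Agent.GammaLib.FreeSplit

theorem isFinLocFree_of_images {X : Scheme.{u}} {M : X.Modules}
    (h : ∀ x : X, ∃ (V : Scheme.{u}) (j : V ⟶ X) (_ : IsOpenImmersion j), x ∈ Set.range j ∧
      FlatMod.IsFinLocFree (M.restrict j)) : FlatMod.IsFinLocFree M := by
  intro x
  obtain ⟨V, j, hj, ⟨v, rfl⟩, hV⟩ := h x
  obtain ⟨W, n, hW, ⟨e⟩⟩ := hV v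
  let l := (W.ι ≫ j).isoOpensRange.inv
  exact ⟨(W.ι ≫ j).opensRange, n, ⟨⟨v, hW⟩, rfl⟩,
    ⟨(ResK0.KerVb.restrTwice l (W.ι ≫ j) _ (by simp [l]) M).symm ≪≫
      (Scheme.Modules.restrictFunctor l).mapIso ((ResK0.KerVb.restrTwice W.ι j _ rfl M).symm ≪≫ e) ≪≫
      PerfTri.LocalLift.freeRestrIso l n⟩⟩

theorem isIso_H_map {C D : Type*} [Category C] [Abelian C] [HasDerivedCategory C] [Category D] [Abelian D]
    [HasDerivedCategory D] (F : C ⥤ D) [F.Additive] [PreservesFiniteLimits F] [PreservesFiniteColimits F]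
    {K L : DerivedCategory C} (α : K ⟶ L) (i : ℤ) (h : IsIso ((homologyFunctor C i).map α)) :
    IsIso ((homologyFunctor D i).map (F.mapDerivedCategory.map α)) := by
  rw [KFlat.TildePC.map_eq]
  infer_instance

variable {X : Scheme.{u}} [IsAffine X]

theorem isIso_H_TU (U : X.Opens) {K L : DerivedCategory (ModuleCat.{u} Γ(X, ⊤))} (α : K ⟶ L) (i : ℤ)
    (h : IsIso ((homologyFunctor _ i).map α)) :
    IsIso ((homologyFunctor _ i).map ((TU U).map α)) :=
  isIso_H_map (Scheme.Modules.restrictFunctor U.ι) _ i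
    (isIso_H_map (Scheme.Modules.restrictFunctor X.isoSpec.hom) _ i
      (isIso_H_map (tilde.functor (CommRingCat.of Γ(X, ⊤))) α i h))

theorem isZero_H_TU (U : X.Opens) (fs : List Γ(X, ⊤))
    (hfs : Groth.Agent.CohDerLib.Kosz.U fs = X.isoSpec.inv ⁻¹ᵁ U)
    (Z : DerivedCategory (ModuleCat.{u} Γ(X, ⊤))) (i : ℤ)
    (h : ∀ g ∈ fs, ∀ x : (homologyFunctor (ModuleCat.{u} Γ(X, ⊤)) i).obj Z, ∃ k : ℕ, g ^ k • x = 0) :
    IsZero ((homologyFunctor _ i).obj ((TU U).obj Z)) := by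
  let A := Γ(X, ⊤)
  let e := X.isoSpec
  let K := (DCoh.tildeD (CommRingCat.of A)).obj Z
  let W := Groth.Agent.CohDerLib.Kosz.U fs
  let l := IsOpenImmersion.lift W.ι (U.ι ≫ e.hom) (by
    rintro _ ⟨z, rfl⟩
    rw [Scheme.Opens.range_ι]
    refine (hfs.ge ?_ :)
    show e.inv (e.hom (U.ι z)) ∈ U
    rw [← Scheme.Hom.comp_apply, e.hom_inv_id]
    exact z.2)
  have : IsOpenImmersion l := by
    have : IsOpenImmersion (l ≫ W.ι) := by rw [IsOpenImmersion.lift_fac]; infer_instance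
    exact IsOpenImmersion.of_comp l W.ι
  let c₁ : (TU U).obj Z ≅ (DCoh.restrictD l).obj ((DCoh.restrictD W.ι).obj K) :=
    (restrictDComp U.ι e.hom (U.ι ≫ e.hom) rfl).app K ≪≫
      ((restrictDComp l W.ι (U.ι ≫ e.hom) (IsOpenImmersion.lift_fac _ _ _)).app K).symm
  have hz : IsZero ((homologyFunctor _ i).obj ((DCoh.restrictD W.ι).obj K)) :=
    (isZero_restrict_of_tors fs fun g hg x => h g hg x).of_iso (homologyRestrictTildeIso fs _ i)
  exact (((Scheme.Modules.restrictFunctor l).map_isZero hz).of_iso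
    ((KFlat.MapHomology.iso (Scheme.Modules.restrictFunctor l) i).app _)).of_iso
      ((homologyFunctor _ i).mapIso c₁)

/-- `TU` of a module in one degree -/
theorem nonempty_TU_sgl (U : X.Opens) (M : ModuleCat.{u} Γ(X, ⊤)) (i : ℤ) :
    Nonempty ((TU U).obj (DRing.toD ((HomologicalComplex.single (ModuleCat.{u} Γ(X, ⊤)) (ComplexShape.up ℤ) i).obj M)) ≅
      (DCoh.inD (U : Scheme.{u}) ((Scheme.Modules.restrictFunctor U.ι).obj
        ((Scheme.Modules.restrictFunctor X.isoSpec.hom).obj ((tilde.functor (CommRingCat.of Γ(X, ⊤))).obj M))))⟦-i⟧) := by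
  let t := tilde.functor (CommRingCat.of Γ(X, ⊤))
  let r := Scheme.Modules.restrictFunctor X.isoSpec.hom
  let ρ := Scheme.Modules.restrictFunctor U.ι
  exact ⟨(DCoh.restrictD U.ι).mapIso ((DCoh.restrictD X.isoSpec.hom).mapIso
      (t.mapDerivedCategoryFactors.app _ ≪≫ Q.mapIso ((HomologicalComplex.singleMapHomologicalComplex t _ i).app M)) ≪≫
      r.mapDerivedCategoryFactors.app _ ≪≫ Q.mapIso ((HomologicalComplex.singleMapHomologicalComplex r _ i).app _)) ≪≫
    ρ.mapDerivedCategoryFactors.app _ ≪≫ Q.mapIso ((HomologicalComplex.singleMapHomologicalComplex ρ _ i).app _) ≪≫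
    ((DerivedCategory.singleFunctorIsoCompQ (U : Scheme.{u}).Modules i).app _).symm ≪≫
    (((DerivedCategory.singleFunctors (U : Scheme.{u}).Modules).shiftIso (-i) i 0 (by omega)).app _).symm⟩

theorem isQCohD_inD {Y : Scheme.{u}} {F : Y.Modules} (hF : FlatMod.IsFinLocFree F) :
    DCoh.IsQCohD (DCoh.inD Y F) :=
  KFlat.QCohModel.isQCohD_of_iso ((DerivedCategory.singleFunctorIsoCompQ Y.Modules 0).app F).symm
    (KFlat.QCohModel.isQCohD_Q_of_terms _ fun i => by
      by_cases hi : i = 0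
      · subst hi
        exact @Groth.Agent.QCoh.isQuasicoherent_of_iso _ _ _
          (HomologicalComplex.singleObjXSelf (ComplexShape.up ℤ) 0 F).symm
          (PerfTri.Betti.isQuasicoherent_of_isFinLocFree.{u} hF)
      · exact CohDerLib.QC.qcoh_of_isZero (HomologicalComplex.isZero_single_obj_X _ _ _ _ hi))

omit [IsAffine X] in
theorem subsingleton_hom_inD (U : X.Opens) (d : ℤ)
    (hd : ∀ F : (U : Scheme.{u}).Modules, FlatMod.IsFinLocFree F → CohDerLib.QC.VanD d (DCoh.inD (U : Scheme.{u}) F))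
    {P F : (U : Scheme.{u}).Modules} (hP : FlatMod.IsFinLocFree P) (hF : FlatMod.IsFinLocFree F) (m : ℤ) (hm : max 0 d < m) :
    Subsingleton (DCoh.inD (U : Scheme.{u}) P ⟶ (DCoh.inD (U : Scheme.{u}) F)⟦m⟧) := by
  have : (DCoh.inD (U : Scheme.{u}) F).IsLE 0 :=
    inferInstanceAs (((DerivedCategory.singleFunctor _ 0).obj F).IsLE 0)
  exact CohDerLib.QC.subsingleton_hom_shift_of_isLE (hd P hP)
    (isQCohD_inD hF) 0 m (by omega)

theorem subsingleton_hom_shift_neg {C : Type*} [Category C] [Preadditive C] [HasShift C ℤ]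
    [∀ n : ℤ, (shiftFunctor C n).Additive] {P F : C} (i m : ℤ) (h : Subsingleton (P ⟶ F⟦m + i⟧)) :
    Subsingleton (P⟦-i⟧ ⟶ F⟦m⟧) := by
  refine ⟨fun φ ψ => (shiftFunctor C i).map_injective ?_⟩
  have := h.elim (((shiftFunctorCompIsoId C (-i) i (by omega)).app P).inv ≫ φ⟦i⟧' ≫ ((shiftFunctorAdd' C m i (m + i) rfl).app F).inv)
    (((shiftFunctorCompIsoId C (-i) i (by omega)).app P).inv ≫ ψ⟦i⟧' ≫ ((shiftFunctorAdd' C m i (m + i) rfl).app F).inv)
  exact (cancel_mono _).1 ((cancel_epi _).1 this)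

omit [IsAffine X] in
open Groth.Agent.DRing Groth.Agent.DRing.Homology Groth.Agent.DRing.DBasic in
/-- the kernels of a perfect complex of projectives are projective far to the left -/
theorem exists_bound_loc (a : Γ(X, ⊤)) (P : DRing.Cx Γ(X, ⊤)) {b : ℤ} (hb : ∀ i, b < i → IsZero (P.X i))
    (hf : ∀ i, Module.Finite Γ(X, ⊤) (P.X i) ∧ Module.Free Γ(X, ⊤) (P.X i))
    (h : DRing.IsPerfect (Localization.Away a) (DRing.toD (TorsRes.locCx a P))) :
    ∃ c : ℤ, (∀ i, i < c → ∀ x : P.homology i, ∃ k : ℕ, a ^ k • x = 0) ∧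
      ∀ j, j < c → Module.Finite (Localization.Away a) ((ModuleCat.extendScalars.{u, u, u}
          (algebraMap Γ(X, ⊤) (Localization.Away a))).obj (ModuleCat.of Γ(X, ⊤) (LinearMap.ker (P.d j (j + 1)).hom))) ∧
        Module.Projective (Localization.Away a) ((ModuleCat.extendScalars.{u, u, u}
          (algebraMap Γ(X, ⊤) (Localization.Away a))).obj (ModuleCat.of Γ(X, ⊤) (LinearMap.ker (P.d j (j + 1)).hom))) := by
  let φ₀ := algebraMap Γ(X, ⊤) (Localization.Away a)
  let Pa := TorsRes.locCx a P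
  obtain ⟨L, c, e', hv, hp, ⟨e⟩⟩ := h
  have hPb : ∀ i, b < i → IsZero (Pa.X i) := fun i hi => DRing.Perfect.isZero_extCx φ₀ (hb i hi)
  have hPf : ∀ i, Module.Finite (Localization.Away a) (Pa.X i) ∧ Module.Projective (Localization.Away a) (Pa.X i) := fun i =>
    ⟨DRing.Perfect.finite_extendScalars φ₀ (hf i).1,
      (haveI : Module.Free (Localization.Away a) (Pa.X i) := DRing.Perfect.free_extendScalars φ₀ (hf i).2; Module.Projective.of_free)⟩
  have : Pa.IsKProjective := DBasic.isKProjective_of_projective Pa b hPb fun i => (hPf i).2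
  obtain ⟨φ, hφ⟩ := DBasic.exists_Q_map_eq (L := L) e.inv
  have : IsIso (Q.map φ) := hφ ▸ inferInstance
  have hN : IsZero (Q.obj (CochainComplex.mappingCone φ)) :=
    (Triangle.isZero₃_iff_isIso₁ _ (mappingCone_triangle_distinguished φ)).2 this
  refine ⟨c, fun i hi x => ?_, fun j hj => ?_⟩
  · refine TorsRes.exact_torsion a i ?_ x
    rw [subsingleton_HD_congr e.symm, subsingleton_HD_toD_iff]
    exact (HomologicalComplex.ExactAt.of_isZero (hv i (Or.inl hi))).isZero_homology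
  · have hk := PC.ker_finite_projective (E := CochainComplex.mappingCone φ) (b := max b e') (m := j - 1)
      (fun i hi => by
        rw [CochainComplex.mappingCone.isZero_X_iff]
        exact ⟨hPb _ (by omega), hv i (Or.inr (by omega))⟩)
      (fun i => by
        obtain ⟨_, _⟩ := hp i
        obtain ⟨_, _⟩ := hPf (i + 1)
        let ι := (HomologicalComplex.homotopyCofiber.XIsoBiprod φ i (i + 1) rfl ≪≫ ModuleCat.biprodIsoProd _ _).toLinearEquiv
        exact ⟨Module.Finite.equiv ι.symm, Module.Projective.of_equiv ι.symm⟩)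
      (fun i _ => by
        rw [HomologicalComplex.exactAt_iff_isZero_homology]
        exact ((homologyFunctor _ i).map_isZero hN).of_iso (hIso _ i).symm) (j - 1) le_rfl
    have key : ∀ (p q : ℤ) (hq : p + 1 = q) (hqc : q < c),
        Nonempty (LinearMap.ker ((CochainComplex.mappingCone φ).d p (p + 1)).hom ≃ₗ[Localization.Away a]
          LinearMap.ker (Pa.d q (q + 1)).hom) := by
      intro p q hq hqc
      subst hq
      have hL : Subsingleton (L.X p) := ModuleCat.subsingleton_of_isZero (hv p (Or.inl (by omega)))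
      have hL' : Subsingleton (L.X (p + 1)) := ModuleCat.subsingleton_of_isZero (hv (p + 1) (Or.inl hqc))
      let f : LinearMap.ker ((CochainComplex.mappingCone φ).d p (p + 1)).hom →ₗ[Localization.Away a]
          LinearMap.ker (Pa.d (p + 1) (p + 1 + 1)).hom :=
        (((CochainComplex.mappingCone.fst φ).1.v p (p + 1) rfl).hom.comp (Submodule.subtype _)).codRestrict _ fun z => by
          have h1 := BARes.fst_d φ p (p + 1) (p + 1 + 1) rfl rfl z.1
          rw [show ((CochainComplex.mappingCone φ).d p (p + 1)).hom z.1 = 0 from z.2, map_zero] at h1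
          exact neg_eq_zero.1 h1.symm
      refine ⟨LinearEquiv.ofBijective f ⟨fun z w hzw => Subtype.ext ?_, fun y => ?_⟩⟩
      · exact BARes.ext_cone φ p (p + 1) rfl (congrArg Subtype.val hzw) (Subsingleton.elim (α := L.X p) _ _)
      · exact ⟨⟨BARes.pairC φ p (p + 1) rfl y.1 0,
          (BARes.isCyc_pairC φ p (p + 1) rfl y.1 0).2 ⟨y.2, Subsingleton.elim (α := L.X (p + 1)) _ _⟩⟩,
          Subtype.ext (BARes.fst_pairC φ p (p + 1) rfl y.1 0)⟩
    obtain ⟨ι⟩ := key (j - 1) j (by omega) hj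
    have := ModuleCat.preservesFiniteLimits_extendScalars_of_flat (TorsRes.flat_away a)
    let E := ModuleCat.extendScalars.{u, u, u} φ₀
    let κ : E.obj (ModuleCat.of Γ(X, ⊤) (LinearMap.ker (P.d j (j + 1)).hom)) ≅
        ModuleCat.of (Localization.Away a) (LinearMap.ker (Pa.d j (j + 1)).hom) :=
      E.mapIso (ModuleCat.kernelIsoKer (P.d j (j + 1))).symm ≪≫ PreservesKernel.iso E (P.d j (j + 1)) ≪≫
        ModuleCat.kernelIsoKer (E.map (P.d j (j + 1)))
    obtain ⟨_, _⟩ := hk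
    exact ⟨Module.Finite.equiv (ι.trans κ.toLinearEquiv.symm), Module.Projective.of_equiv (ι.trans κ.toLinearEquiv.symm)⟩

/-- the kernel module as a sheaf on `U` -/
abbrev kerSheaf (U : X.Opens) (P : DRing.Cx Γ(X, ⊤)) (j : ℤ) : (U : Scheme.{u}).Modules :=
  (Scheme.Modules.restrictFunctor U.ι).obj ((Scheme.Modules.restrictFunctor X.isoSpec.hom).obj
    ((tilde.functor (CommRingCat.of Γ(X, ⊤))).obj (ModuleCat.of Γ(X, ⊤) (LinearMap.ker (P.d j (j + 1)).hom))))

theorem isFinLocFree_kerSheaf (U : X.Opens) (fs : List Γ(X, ⊤))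
    (hfs : Groth.Agent.CohDerLib.Kosz.U fs = X.isoSpec.inv ⁻¹ᵁ U) (P : DRing.Cx Γ(X, ⊤)) (j : ℤ)
    (h : ∀ a ∈ fs, Module.Finite (Localization.Away a) ((ModuleCat.extendScalars.{u, u, u}
          (algebraMap Γ(X, ⊤) (Localization.Away a))).obj (ModuleCat.of Γ(X, ⊤) (LinearMap.ker (P.d j (j + 1)).hom))) ∧
        Module.Projective (Localization.Away a) ((ModuleCat.extendScalars.{u, u, u}
          (algebraMap Γ(X, ⊤) (Localization.Away a))).obj (ModuleCat.of Γ(X, ⊤) (LinearMap.ker (P.d j (j + 1)).hom)))) :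
    FlatMod.IsFinLocFree (kerSheaf U P j) := by
  let A : CommRingCat.{u} := CommRingCat.of Γ(X, ⊤)
  let e := X.isoSpec
  refine isFinLocFree_of_images fun x => ?_
  have hx : e.hom (U.ι x) ∈ e.inv ⁻¹ᵁ U := by
    show e.inv (e.hom (U.ι x)) ∈ U
    rw [← Scheme.Hom.comp_apply, e.hom_inv_id]
    exact x.2
  rw [← hfs, Groth.Agent.CohDerLib.Kosz.U_eq] at hx
  obtain ⟨⟨a, ha⟩, hxa⟩ := Opens.mem_iSup.1 hx
  let jj : Spec (KFlat.TildePerfect.Af (A := A) a) ⟶ Spec A := KFlat.TildePerfect.jf (A := A) a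
  have hle : (PrimeSpectrum.basicOpen a : (Spec A).Opens) ≤ e.inv ⁻¹ᵁ U := by
    rw [← hfs, Groth.Agent.CohDerLib.Kosz.U_eq]
    exact le_iSup (fun i : {x : Γ(X, ⊤) // x ∈ fs} =>
      (PrimeSpectrum.basicOpen i.1 : (Spec (CommRingCat.of Γ(X, ⊤))).Opens)) ⟨a, ha⟩
  let l := IsOpenImmersion.lift U.ι (jj ≫ e.inv) (by
    rintro _ ⟨z, rfl⟩
    rw [Scheme.Opens.range_ι, Scheme.Hom.comp_apply]
    exact hle ((KFlat.TildePerfect.range_jf (A := A) a).le ⟨z, rfl⟩))
  have : IsOpenImmersion l := by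
    have : IsOpenImmersion (l ≫ U.ι) := by rw [IsOpenImmersion.lift_fac]; infer_instance
    exact IsOpenImmersion.of_comp l U.ι
  obtain ⟨z, hz⟩ := (KFlat.TildePerfect.range_jf (A := A) a).ge hxa
  refine ⟨_, l, inferInstance, ⟨z, ?_⟩, ?_⟩
  · have h1 : (l ≫ U.ι) z = U.ι x := by
      rw [IsOpenImmersion.lift_fac, Scheme.Hom.comp_apply]
      exact (congrArg e.inv hz).trans (by rw [← Scheme.Hom.comp_apply, e.hom_inv_id]; rfl)
    exact U.ι.isOpenEmbedding.injective h1
  · let M : ModuleCat.{u} A := ModuleCat.of Γ(X, ⊤) (LinearMap.ker (P.d j (j + 1)).hom)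
    let G := (tilde.functor A).obj M
    have hj : (jj ≫ e.inv) ≫ e.hom = jj :=
      (Category.assoc _ _ _).trans ((congrArg (jj ≫ ·) e.inv_hom_id).trans (Category.comp_id jj))
    refine KFlat.LocFree.isFinLocFree_of_iso (?_ : (tilde.functor (KFlat.TildePerfect.Af (A := A) a)).obj
      ((ModuleCat.extendScalars.{u, u, u} (KFlat.TildePerfect.ψ (A := A) a).hom).obj M) ≅ _)
      ((Groth.Agent.S12451.result _).2 (h a ha))
    exact ((Scheme.Modules.restrictFunctorIsoPullback jj).app G ≪≫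
        (KFlat.TildePull.pullTildeIso (KFlat.TildePerfect.ψ (A := A) a)).app M).symm ≪≫
      (ResK0.KerVb.restrTwice (jj ≫ e.inv) e.hom jj hj G).symm ≪≫
      (ResK0.KerVb.restrTwice l U.ι (jj ≫ e.inv) (IsOpenImmersion.lift_fac _ _ _) _).symm

open Groth.Agent.DRing.Homology Groth.Agent.DRing.DBasic in
theorem exists_tri (U : X.Opens) (fs : List Γ(X, ⊤))
    (hfs : Groth.Agent.CohDerLib.Kosz.U fs = X.isoSpec.inv ⁻¹ᵁ U) (P : DRing.Cx Γ(X, ⊤)) (c j : ℤ) (hj : j < c)
    (htors : ∀ a ∈ fs, ∀ i, i < c → ∀ x : P.homology i, ∃ k : ℕ, a ^ k • x = 0) :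
    ∃ (f : (DCoh.inD (U : Scheme.{u}) (kerSheaf U P j))⟦-j⟧ ⟶ (TU U).obj (Q.obj (DRing.KFlat.sigmaGE P j)))
      (g : (TU U).obj (Q.obj (DRing.KFlat.sigmaGE P j)) ⟶ (TU U).obj (Q.obj P))
      (h : (TU U).obj (Q.obj P) ⟶ ((DCoh.inD (U : Scheme.{u}) (kerSheaf U P j))⟦-j⟧)⟦(1 : ℤ)⟧),
      Triangle.mk f g h ∈ distinguishedTriangles := by
  let M : ModuleCat.{u} Γ(X, ⊤) := ModuleCat.of Γ(X, ⊤) (LinearMap.ker (P.d j (j + 1)).hom)
  let S := (HomologicalComplex.single (ModuleCat.{u} Γ(X, ⊤)) (ComplexShape.up ℤ) j).obj M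
  let σ := DRing.KFlat.sigmaGE P j
  let g₀ : M ⟶ σ.X j := ModuleCat.ofHom ((LinearMap.ker (P.d j (j + 1)).hom).subtype.codRestrict
    (DRing.KFlat.truncSub P j j) fun _ => DRing.PC.mem_truncSub le_rfl _)
  let u : S ⟶ σ := HomologicalComplex.mkHomFromSingle g₀ fun k (hk : j + 1 = k) => by
    subst hk
    exact ModuleCat.hom_ext (LinearMap.ext fun z => Subtype.ext z.2)
  have huf : ∀ z : M, (u.f j).hom ((HomologicalComplex.singleObjXSelf (ComplexShape.up ℤ) j M).inv.hom z) = g₀.hom z :=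
    fun z => by
      rw [show u.f j = (HomologicalComplex.singleObjXSelf (ComplexShape.up ℤ) j M).hom ≫ g₀ from
        HomologicalComplex.mkHomFromSingle_f _ _, ← LinearMap.comp_apply, ← ModuleCat.hom_comp, Iso.inv_hom_id_assoc]
  have hu : IsIso ((homologyFunctor _ j).map (Q.map u)) := by
    have : IsIso (HomologicalComplex.homologyMap u j) := by
      refine (isIso_homologyMap_iff u j).2 ⟨?_, ?_⟩
      · rw [homologyMap_injective_iff u j (j - 1) (by omega)]
        intro e w _ hw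
        have hw0 : w = 0 := by
          have := ModuleCat.subsingleton_of_isZero (DRing.KFlat.sigmaGE_X_isZero P (show j - 1 < j by omega))
          exact Subsingleton.elim _ _
        rw [hw0, map_zero] at hw
        refine ⟨0, ?_⟩
        rw [map_zero]
        let ι := (HomologicalComplex.singleObjXSelf (ComplexShape.up ℤ) j M).toLinearEquiv
        obtain ⟨z, rfl⟩ : ∃ z, ι.symm z = e := ⟨ι e, ι.symm_apply_apply e⟩
        have h2 := (huf z).symm.trans hw
        have : z = 0 := Subtype.ext (congrArg (fun y : DRing.KFlat.truncSub P j j => y.1) (show (g₀.hom z : DRing.KFlat.truncSub P j j) = 0 from h2))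
        rw [this, map_zero]
      · rw [homologyMap_surjective_iff u j (j - 1) (by omega)]
        intro z hz
        refine ⟨(HomologicalComplex.singleObjXSelf (ComplexShape.up ℤ) j M).inv.hom ⟨z.1, congrArg Subtype.val hz⟩, 0, ?_, ?_⟩
        · have hd : S.d j (j + 1) = 0 := HomologicalComplex.single_obj_d _ _ _ _ _
          unfold IsCyc
          rw [hd]; rfl
        · rw [map_zero, add_zero, huf]
          rfl
    rw [HF_map_Q_eq]
    infer_instance
  have hS0 : ∀ i, i ≠ j → IsZero ((homologyFunctor _ i).obj (Q.obj S)) := fun i hi =>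
    ((HomologicalComplex.exactAt_single_obj _ _ _ _ hi).isZero_homology).of_iso (hIso S i)
  have hσ0 : ∀ i, i < j → IsZero ((homologyFunctor _ i).obj (Q.obj σ)) := fun i hi =>
    ((HomologicalComplex.ExactAt.of_isZero (DRing.KFlat.sigmaGE_X_isZero P hi)).isZero_homology).of_iso (hIso σ i)
  obtain ⟨D, v, w, hT⟩ := distinguished_cocone_triangle (Q.map u)
  have hD0 : ∀ i, i ≤ j → IsZero ((homologyFunctor _ i).obj D) := fun i hi => by
    refine (HomologySequence.exact₃ _ hT i (i + 1) rfl).isZero_of_both_zeros ?_ ?_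
    · rcases hi.lt_or_eq with hi | rfl
      · exact (hσ0 i hi).eq_of_src _ _
      · exact (cancel_epi ((homologyFunctor _ i).map (Q.map u))).1
          (((((homologyFunctor _ i).map_comp _ _).symm).trans
            ((congrArg _ (comp_distTriang_mor_zero₁₂ _ hT)).trans (Functor.map_zero _ _ _))).trans comp_zero.symm)
    · by_cases hij : i + 1 = j
      · subst hij
        exact (cancel_mono ((homologyFunctor _ (i + 1)).map (Q.map u))).1
          ((HomologySequence.δ_comp _ hT i (i + 1) rfl).trans zero_comp.symm)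
      · exact (hS0 (i + 1) hij).eq_of_tgt _ _
  have hv : ∀ i, j < i → IsIso ((homologyFunctor _ i).map v) := fun i hi => by
    have he : Epi ((homologyFunctor _ i).map v) :=
      (HomologySequence.epi_homologyMap_mor₂_iff _ hT i (i + 1) rfl).2 ((hS0 (i + 1) (by omega)).eq_of_tgt _ _)
    have hm : Mono ((homologyFunctor _ i).map v) :=
      (HomologySequence.mono_homologyMap_mor₂_iff _ hT i).2 ((hS0 i (by omega)).eq_of_src _ _)
    exact @isIso_of_mono_of_epi _ _ _ _ _ _ hm he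
  have hE0 : ∀ i, i < c → IsZero ((homologyFunctor _ i).obj ((TU U).obj (Q.obj P))) := fun i hi =>
    isZero_H_TU U fs hfs _ i fun a ha x => by
      let ι := (hIso P i).toLinearEquiv
      obtain ⟨k, hk⟩ := htors a ha i hi (ι x)
      exact ⟨k, ι.injective ((ι.map_smul _ _).trans (hk.trans ι.map_zero.symm))⟩
  obtain ⟨eS⟩ := nonempty_TU_sgl U M j
  have hcomp : (TU U).map (Q.map u) ≫ (TU U).map (Q.map (DRing.KFlat.sigmaGEι P j)) = 0 := by
    refine (cancel_epi eS.inv).1 ?_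
    rw [comp_zero]
    have : (DCoh.inD (U : Scheme.{u}) (kerSheaf U P j)).IsLE 0 :=
      inferInstanceAs (((DerivedCategory.singleFunctor _ 0).obj _).IsLE 0)
    have h1 : ((DCoh.inD (U : Scheme.{u}) (kerSheaf U P j))⟦-j⟧).IsLE j :=
      TStructure.t.isLE_shift _ 0 (-j) j (by omega)
    have h2 : ((TU U).obj (Q.obj P)).IsGE c := (DerivedCategory.isGE_iff _ _).2 hE0
    exact TStructure.t.zero _ j c hj
  have hT' := (TU U).map_distinguished _ hT
  obtain ⟨θ, hθ⟩ : ∃ θ : (TU U).obj D ⟶ (TU U).obj (Q.obj P),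
      (TU U).map (Q.map (DRing.KFlat.sigmaGEι P j)) = (TU U).map v ≫ θ :=
    Triangle.yoneda_exact₂ _ hT' _ hcomp
  have : IsIso θ := by
    rw [DerivedCategory.isIso_iff]
    intro i
    rcases le_or_gt i j with hi | hi
    · refine isIso_of_isInitial (IsZero.isInitial ?_) (IsZero.isInitial (hE0 i (by omega))) _
      exact isZero_H_TU U fs hfs D i fun a _ x =>
        have := ModuleCat.subsingleton_of_isZero (hD0 i hi)
        ⟨0, Subsingleton.elim _ _⟩
    · have := isIso_H_TU U v i (hv i hi)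
      have h2 := isIso_H_TU U (Q.map (DRing.KFlat.sigmaGEι P j)) i ((DRing.PC.isApprox_sigmaGEι P j).1 i hi)
      rw [hθ, Functor.map_comp] at h2
      exact IsIso.of_isIso_comp_left ((homologyFunctor _ i).map ((TU U).map v)) _
  let T' := (TU U).mapTriangle.obj (Triangle.mk (Q.map u) v w)
  refine ⟨eS.inv ≫ T'.mor₁, T'.mor₂ ≫ θ, inv θ ≫ T'.mor₃ ≫ eS.hom⟦(1 : ℤ)⟧', isomorphic_distinguished _ hT' _
    (Triangle.isoMk _ _ eS.symm (Iso.refl _) (asIso θ).symm ?_ ?_ ?_)⟩
  · exact (Category.comp_id _)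
  · exact (Category.assoc _ _ _).trans ((congrArg (T'.mor₂ ≫ ·) (IsIso.hom_inv_id θ)).trans
      ((Category.comp_id _).trans (Category.id_comp _).symm))
  · change (inv θ ≫ T'.mor₃ ≫ eS.hom⟦(1 : ℤ)⟧') ≫ eS.inv⟦(1 : ℤ)⟧' = inv θ ≫ T'.mor₃
    rw [Category.assoc, Category.assoc, ← Functor.map_comp]
    exact (congrArg (fun t => inv θ ≫ T'.mor₃ ≫ t) (((shiftFunctor (DCoh.D (U : Scheme.{u})) (1 : ℤ)).congr_map eS.hom_inv_id).trans
      ((shiftFunctor (DCoh.D (U : Scheme.{u})) (1 : ℤ)).map_id _))).trans (congrArg (inv θ ≫ ·) (Category.comp_id _))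

theorem perfect_loc (U : X.Opens) (fs : List Γ(X, ⊤))
    (hfs : Groth.Agent.CohDerLib.Kosz.U fs = X.isoSpec.inv ⁻¹ᵁ U)
    (K : DRing.Cx Γ(X, ⊤)) (a : Γ(X, ⊤)) (ha : a ∈ fs)
    (hK : DCoh.IsPerfect ((TU U).obj (Q.obj K))) :
    DRing.IsPerfect (Localization.Away a) (DRing.toD (TorsRes.locCx a K)) := by
  let A : CommRingCat.{u} := CommRingCat.of Γ(X, ⊤)
  let e := X.isoSpec
  let j : Spec (KFlat.TildePerfect.Af (A := A) a) ⟶ Spec A := KFlat.TildePerfect.jf (A := A) a
  have hle : (PrimeSpectrum.basicOpen a : (Spec A).Opens) ≤ e.inv ⁻¹ᵁ U := by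
    rw [← hfs, Groth.Agent.CohDerLib.Kosz.U_eq]
    exact le_iSup (fun i : {x : Γ(X, ⊤) // x ∈ fs} =>
      (PrimeSpectrum.basicOpen i.1 : (Spec (CommRingCat.of Γ(X, ⊤))).Opens)) ⟨a, ha⟩
  let l := IsOpenImmersion.lift U.ι (j ≫ e.inv) (by
    rintro _ ⟨z, rfl⟩
    rw [Scheme.Opens.range_ι, Scheme.Hom.comp_apply]
    exact hle ((KFlat.TildePerfect.range_jf (A := A) a).le ⟨z, rfl⟩))
  have : IsOpenImmersion l := by
    have : IsOpenImmersion (l ≫ U.ι) := by rw [IsOpenImmersion.lift_fac]; infer_instance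
    exact IsOpenImmersion.of_comp l U.ι
  have := KFlat.TildeExact.preservesFiniteLimits_tilde (KFlat.TildePerfect.Af (A := A) a)
  refine KFlat.TildePerfect.isPerfect_of_tildeD (A := KFlat.TildePerfect.Af (A := A) a) _ ?_
  refine Perfect.isPerfect_of_iso ?_ (PerfExt.isPerfect_restrict l hK)
  refine (restrictDComp l U.ι (j ≫ e.inv) (IsOpenImmersion.lift_fac _ _ _)).app _ ≪≫
    (restrictDComp (j ≫ e.inv) e.hom j ?_).app _ ≪≫ KFlat.TildePerfect.restrTildeDIso (A := A) a K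
  exact (Category.assoc _ _ _).trans ((congrArg (j ≫ ·) e.inv_hom_id).trans (Category.comp_id j))

theorem exists_split (U : X.Opens) (hU : IsCompact (U : Set X))
    (E : DCoh.D (U : Scheme.{u})) (hE : DCoh.IsPerfect E)
    [∀ (A B : DCoh.D (U : Scheme.{u})), HasBinaryBiproduct A B] :
    ∃ (r : ℤ) (F : (U : Scheme.{u}).Modules) (G : CochainComplex X.Modules ℤ), FlatMod.IsFinLocFree F ∧
      DCoh.IsPerfect (DCoh.toD X G) ∧
      Nonempty (Q.obj ((DCoh.restrictCx U).obj G) ≅ (DCoh.inD (U : Scheme.{u}) F)⟦-r⟧ ⊞ E) := by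
  classical
  let A : CommRingCat.{u} := CommRingCat.of Γ(X, ⊤)
  obtain ⟨fs, hfs⟩ := FreeExtend.exists_fs U hU
  have : CompactSpace (U : Scheme.{u}) := isCompact_iff_compactSpace.mp hU
  have : QuasiCompact U.ι := AlgebraicGeometry.quasiCompact_of_compactSpace U.ι
  obtain ⟨G₀, hG₀, -, ⟨e₀⟩⟩ := KFlat.CohExtend.exists_extension U E (isQCohD_of_isPerfect hE)
  obtain ⟨M, ⟨eM⟩⟩ := exists_iso_T X hG₀
  let K := Q.objPreimage M
  let eE : (TU U).obj (Q.obj K) ≅ E :=
    (DCoh.restrictD U.ι).mapIso ((T X).mapIso (Q.objObjPreimageIso M) ≪≫ eM) ≪≫ Perfect.restrQ U.ι G₀ ≪≫ e₀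
  obtain ⟨P, π, b, hPb, hPf, hπ⟩ := TorsRes.exists_approx_free (K := K) (fs := fs)
    fun a ha => FreeExtend.pc_loc U fs hfs K a ha fun m =>
      PCohD.pc_of_iso eE.symm (PCohD.pc_of_perfect hE m)
  have hTπ := (TU U).map_distinguished _ (DerivedCategory.mappingCone_triangle_distinguished π)
  have hz : IsZero ((TU U).obj (Q.obj (CochainComplex.mappingCone π))) := by
    refine (KFlat.Approx.isZero_iff_of_eq U fs hfs _).2 fun a ha i x => ?_
    let ι := (DRing.DBasic.hIso (CochainComplex.mappingCone π) i).toLinearEquiv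
    obtain ⟨k, hk⟩ := hπ a ha i (ι x)
    exact ⟨k, ι.injective ((ι.map_smul _ _).trans (hk.trans ι.map_zero.symm))⟩
  have : IsIso ((TU U).map (Q.map π)) := (Triangle.isZero₃_iff_isIso₁ _ hTπ).1 hz
  let eP : (TU U).obj (Q.obj P) ≅ E := @asIso _ _ _ _ ((TU U).map (Q.map π)) this ≪≫ eE
  choose c hc₁ hc₂ using fun (a : Γ(X, ⊤)) (ha : a ∈ fs) =>
    exists_bound_loc a P hPb hPf (perfect_loc U fs hfs P a ha (Perfect.isPerfect_of_iso eP.symm hE))
  obtain ⟨C, hC⟩ := Finset.exists_le (α := ℤᵒᵈ) (fs.attach.toFinset.image fun p : {x // x ∈ fs} => OrderDual.toDual (c p.1 p.2))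
  let c₀ : ℤ := OrderDual.ofDual C
  have hc₀ : ∀ a (ha : a ∈ fs), c₀ ≤ c a ha := fun a ha =>
    hC _ (Finset.mem_image.mpr ⟨⟨a, ha⟩, by simp, rfl⟩)
  have htors : ∀ a ∈ fs, ∀ i, i < c₀ → ∀ x : P.homology i, ∃ k : ℕ, a ^ k • x = 0 :=
    fun a ha i hi => hc₁ a ha i (lt_of_lt_of_le hi (hc₀ a ha))
  have hlf : ∀ j, j < c₀ → FlatMod.IsFinLocFree (kerSheaf U P j) := fun j hj =>
    isFinLocFree_kerSheaf U fs hfs P j fun a ha => hc₂ a ha j (lt_of_lt_of_le hj (hc₀ a ha))
  have : QuasiSeparatedSpace (U : Scheme.{u}) := quasiSeparatedSpace_of_quasiSeparated U.ι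
  obtain ⟨d, hd⟩ := KFlat.ExtUniform.exists_bound_top (X := (U : Scheme.{u}))
  let k : ℤ := c₀ - 1
  let n : ℤ := k - max 0 d - 1
  obtain ⟨fk, gk, hk, hTk⟩ := exists_tri U fs hfs P c₀ k (by omega) htors
  obtain ⟨fn, gn, hn, hTn⟩ := exists_tri U fs hfs P c₀ n (by omega) htors
  have hFn := hlf n (by omega)
  let F := DCoh.inD (U : Scheme.{u}) (kerSheaf U P n)
  -- maps from the truncation at `k` to `F[m]` vanish
  have hσ : ∀ φ : (TU U).obj (Q.obj (DRing.KFlat.sigmaGE P k)) ⟶ (F⟦-n⟧)⟦(1 : ℤ)⟧, φ = 0 := by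
    intro φ
    suffices h : ∀ ψ : (TU U).obj (Q.obj (DRing.KFlat.sigmaGE P k)) ⟶ F⟦-n + 1⟧, ψ = 0 by
      exact (cancel_mono ((shiftFunctorAdd' (DCoh.D (U : Scheme.{u})) (-n) 1 (-n + 1) rfl).inv.app F)).1
        ((h _).trans zero_comp.symm)
    let Φ : Dual.D Γ(X, ⊤) → Prop := fun Z => ∀ ψ : (TU U).obj Z ⟶ F⟦-n + 1⟧, ψ = 0
    refine DRing.Devissage.of_terms Φ (fun e h ψ => (cancel_epi ((TU U).map e.hom)).1 ((h _).trans comp_zero.symm))
      (fun Z hZ ψ => ((TU U).map_isZero hZ).eq_of_src _ _) (fun S hS h₁ h₃ ψ => ?_) _ (a := k) (b := b)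
      (DRing.PC.vanishesOutside_sigmaGE hPb k) fun i => ?_
    · obtain ⟨χ, hχ⟩ := Triangle.yoneda_exact₂ _ ((TU U).map_distinguished _ hS) ψ (h₁ _)
      rw [hχ, h₃ χ]
      exact comp_zero
    · intro ψ
      by_cases hi : k ≤ i
      · obtain ⟨es⟩ := nonempty_TU_sgl U ((DRing.KFlat.sigmaGE P k).X i) i
        refine (cancel_epi es.inv).1 ?_
        rw [comp_zero]
        refine (subsingleton_hom_shift_neg i (-n + 1) (subsingleton_hom_inD U d hd ?_ hFn (-n + 1 + i) (by omega))).elim _ _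
        obtain ⟨r, ⟨er⟩⟩ := FreeExtend.exists_freeMod_tilde ((DRing.KFlat.sigmaGE P k).X i)
          (DRing.PC.finiteFree_sigmaGE hPf k i)
        refine KFlat.LocFree.isFinLocFree_restrict ?_ U
        exact KFlat.LocFree.isFinLocFree_of_iso er.symm (fun x => ⟨⊤, r, trivial, ⟨PerfTri.LocalLift.freeRestrIso (⊤ : X.Opens).ι r⟩⟩)
      · refine ((TU U).map_isZero ?_).eq_of_src _ _
        exact Q.map_isZero (by
          rw [IsZero.iff_id_eq_zero]
          refine HomologicalComplex.hom_ext _ _ fun p => ?_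
          by_cases hp : p = i
          · subst hp
            exact ((DRing.KFlat.sigmaGE_X_isZero P (show p < k by omega)).of_iso
              (HomologicalComplex.singleObjXSelf _ p _)).eq_of_src _ _
          · exact (HomologicalComplex.isZero_single_obj_X _ _ _ _ hp).eq_of_src _ _)
  have hδ : hn = 0 := by
    obtain ⟨χ, hχ⟩ := Triangle.yoneda_exact₃ _ hTk hn (hσ _)
    rw [hχ]
    have hχ0 : χ = 0 := by
      refine (cancel_epi ((shiftFunctorAdd' (DCoh.D (U : Scheme.{u})) (-k) 1 (-(k - 1)) (by omega)).hom.app _)).1 ?_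
      refine (cancel_mono ((shiftFunctorAdd' (DCoh.D (U : Scheme.{u})) (-n) 1 (-n + 1) rfl).inv.app F)).1 ?_
      exact (subsingleton_hom_shift_neg (k - 1) (-n + 1)
        (subsingleton_hom_inD U d hd (hlf k (by omega)) hFn (-n + 1 + (k - 1)) (by omega))).elim _ _
    rw [hχ0]
    exact comp_zero
  obtain ⟨eS, -, -⟩ := exists_iso_binaryBiproduct_of_distTriang _ hTn hδ
  let G : CochainComplex X.Modules ℤ :=
    (Nullhom.resC X.isoSpec.hom).obj ((KFlat.TildePerfect.tCx A).obj (DRing.KFlat.sigmaGE P n))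
  let eG : Q.obj G ≅ (T X).obj (Q.obj (DRing.KFlat.sigmaGE P n)) :=
    (Perfect.restrQ X.isoSpec.hom _).symm ≪≫ (DCoh.restrictD X.isoSpec.hom).mapIso
      ((tilde.functor A).mapDerivedCategoryFactors.app (DRing.KFlat.sigmaGE P n)).symm
  refine ⟨n, kerSheaf U P n, G, hFn, Perfect.isPerfect_of_iso eG.symm ((isPerfect_T_iff X _).2
    ⟨DRing.KFlat.sigmaGE P n, n, b, DRing.PC.vanishesOutside_sigmaGE hPb n,
      fun i => ⟨(DRing.PC.finiteFree_sigmaGE hPf n i).1,
        have := (DRing.PC.finiteFree_sigmaGE hPf n i).2; inferInstance⟩, ⟨Iso.refl _⟩⟩), ⟨?_⟩⟩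
  exact (Perfect.restrQ U.ι G).symm ≪≫ (DCoh.restrictD U.ι).mapIso eG ≪≫ eS ≪≫ biprod.mapIso (Iso.refl _) eP

end Groth.Agent.GammaLib.FreeSplit
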