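import Groth.Agent.KFlat.Approx
import Groth.Agent.KFlat.FlatProperPC
import Groth.Agent.CohDerLib.AcyclicSums
import Groth.Agent.CohDerLib.Kosz.Orth
import Groth.Agent.KFlat.HomologyColim
import Groth.Agent.S1034
import Groth.Prelude.Def_DerLim

/-!
# Pseudo-coherent objects as homotopy colimits of perfect ones
-/

set_option autoImplicit false

universe u

open CategoryTheory CategoryTheory.Limits AlgebraicGeometry Pretriangulated DerivedCategory
open Groth.Agent.PerfTri Groth.Agent.KFlat.Approx Groth.Agent.CohDerLib Groth.Agent.CohDerLib.AcyclicSums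

attribute [local instance] HasDerivedCategory.standard
attribute [-instance] CategoryTheory.ReflQuiver.toQuiver

noncomputable section

namespace Groth.Agent.GammaLib.HocolimPC

variable {X : Scheme.{u}}

theorem hasExactColimitsOfShape_nat : HasExactColimitsOfShape ℕ X.Modules :=
  HasExactColimitsOfShape.of_domain_equivalence X.Modules (J := AsSmall.{u} ℕ)
    (AsSmall.equiv (C := ℕ)).symm

theorem preservesCoproduct_homology (j : ℤ) :
    PreservesColimitsOfShape (Discrete ℕ) (homologyFunctor X.Modules j) := by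
  have : HasExactColimitsOfShape (Discrete ℕ) X.Modules := inferInstance
  refine ⟨fun {D} => ?_⟩
  let L : ℕ → CochainComplex X.Modules ℤ := fun n => Q.objPreimage (D.obj ⟨n⟩)
  obtain ⟨hc⟩ := nonempty_isColimit_Q (Cofan.mk (∐ L) (Sigma.ι L)) (coproductIsCoproduct L)
  have : PreservesColimit (Discrete.functor L) (Q ⋙ homologyFunctor X.Modules j) :=
    preservesColimit_of_natIso _ (homologyFunctorFactors X.Modules j).symm
  have : PreservesColimit (Discrete.functor fun n => Q.obj (L n)) (homologyFunctor X.Modules j) :=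
    preservesColimit_of_preserves_colimit_cocone hc ((isColimitMapCoconeCofanMkEquiv _ _ _).symm
      (isColimitMapCoconeCofanMkEquiv (Q ⋙ homologyFunctor X.Modules j) L (Sigma.ι L)
        (isColimitOfPreserves (Q ⋙ homologyFunctor X.Modules j) (coproductIsCoproduct L))))
  exact preservesColimit_of_iso_diagram (K₁ := Discrete.functor fun n => Q.obj (L n)) _
    (Discrete.natIso fun n => Q.objObjPreimageIso (D.obj n))

/-- an approximation stage -/
structure St (W : X.Opens) (K : DCoh.D X) (m : ℤ) where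
  C : DCoh.D X
  Z : DCoh.D X
  b : K ⟶ C
  c : C ⟶ Z
  d : Z ⟶ K⟦(1 : ℤ)⟧
  mem : Triangle.mk b c d ∈ distinguishedTriangles
  perf : DCoh.IsPerfect Z
  zero : IsZero ((DCoh.restrictD W.ι).obj Z)
  van : VanGE m C

variable {W : X.Opens} {K : DCoh.D X}

/-- the perfect object of a stage -/
abbrev St.P {m : ℤ} (s : St W K m) : DCoh.D X := s.Z⟦(-1 : ℤ)⟧

/-- its map to `K` -/
abbrev St.α {m : ℤ} (s : St W K m) : s.P ⟶ K := (Triangle.mk s.b s.c s.d).invRotate.mor₁

theorem exists_next {r : ℤ} (hG : Good X W r) (hK : ∀ m, DCoh.IsPseudoCoherentD m K)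
    (hW : IsZero ((DCoh.restrictD W.ι).obj K)) {m : ℤ} (s : St W K m) (m' : ℤ) :
    ∃ (s' : St W K m') (f : s.P ⟶ s'.P), f ≫ s'.α = s.α := by
  have hCpc : ∀ n, DCoh.IsPseudoCoherentD n s.C := fun n => PCohD.pc₂ _ s.mem (hK n) (PCohD.pc_of_perfect s.perf n)
  have hCW : IsZero ((DCoh.restrictD W.ι).obj s.C) := isZero_restrict_mid W s.mem hW s.zero
  obtain ⟨C', P, b', c', d', hT', hP, hPW, hC'⟩ := hG m' s.C
    (KFlat.FlatProper.isQCohD_of_pc hCpc) (hCpc _) (vanGE_of_isZero hCW)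
  obtain ⟨Z, v, w, hT⟩ := distinguished_cocone_triangle (s.b ≫ b')
  let O := Triangulated.someOctahedron rfl s.mem hT' hT
  let s' : St W K m' := ⟨C', Z, s.b ≫ b', v, w, hT, Perfect.isPerfect₂ _ O.mem s.perf hP,
    isZero_restrict_mid W O.mem s.zero hPW, hC'⟩
  refine ⟨s', O.m₁⟦(-1 : ℤ)⟧', ?_⟩
  have hw : O.m₁ ≫ w = s.d := O.comm₂
  dsimp only [St.α, s', Triangle.invRotate, Triangle.mk]
  have h := (shiftFunctor (DCoh.D X) (-1 : ℤ)).congr_map hw
  rw [Functor.map_comp] at h
  simp only [Preadditive.comp_neg, ← Category.assoc]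
  exact congrArg (fun t => -(t ≫ _)) h

theorem isIso_H_α {m : ℤ} (s : St W K m) (i : ℤ) (hi : m < i) :
    IsIso ((homologyFunctor X.Modules i).map s.α) := by
  have hT' := inv_rot_of_distTriang _ s.mem
  have he : Epi ((homologyFunctor X.Modules i).map (Triangle.mk s.b s.c s.d).invRotate.mor₁) :=
    (HomologySequence.epi_homologyMap_mor₁_iff _ hT' i).2 ((s.van i hi.le).eq_of_tgt _ _)
  have hm : Mono ((homologyFunctor X.Modules i).map (Triangle.mk s.b s.c s.d).invRotate.mor₁) :=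
    (HomologySequence.mono_homologyMap_mor₁_iff _ hT' (i - 1) i (by omega)).2
      ((s.van (i - 1) (by omega)).eq_of_src _ _)
  exact @isIso_of_mono_of_epi _ _ _ _ _ _ hm he

theorem exists_system [CompactSpace X] [QuasiSeparatedSpace X] (hWc : IsCompact (W : Set X))
    (hK : ∀ m, DCoh.IsPseudoCoherentD m K) (hW : IsZero ((DCoh.restrictD W.ι).obj K)) :
    ∃ (E : ℕ → DCoh.D X) (f : ∀ n, E n ⟶ E (n + 1)) (i : ∀ n, E n ⟶ K),
      (∀ n, DCoh.IsPerfect (E n)) ∧ (∀ n, IsZero ((DCoh.restrictD W.ι).obj (E n))) ∧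
      (∀ n, f n ≫ i (n + 1) = i n) ∧
      ∀ (n : ℕ) (j : ℤ), -(n : ℤ) ≤ j → IsIso ((homologyFunctor X.Modules j).map (i n)) := by
  obtain ⟨r, -, hG⟩ := exists_good X W hWc
  obtain ⟨C, Z, b, c, d, hT, hZ, hZW, hC⟩ := hG (-1) K (KFlat.FlatProper.isQCohD_of_pc hK) (hK _)
    (vanGE_of_isZero hW)
  choose nxt f hf using fun (n : ℕ) (s : St W K (-1 - (n : ℤ))) =>
    exists_next hG hK hW s (-1 - ((n + 1 : ℕ) : ℤ))
  let st : ∀ n : ℕ, St W K (-1 - (n : ℤ)) := fun n => Nat.rec
    (⟨C, Z, b, c, d, hT, hZ, hZW, vanGE_mono hC (by simp)⟩ : St W K (-1 - ((0 : ℕ) : ℤ)))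
    (fun k s => nxt k s) n
  refine ⟨fun n => (st n).P, fun n => f n (st n), fun n => (st n).α,
    fun n => Perfect.isPerfect_shift (st n).perf (-1),
    fun n => ((shiftFunctor _ (-1 : ℤ)).map_isZero (st n).zero).of_iso
      (((DCoh.restrictD W.ι).commShiftIso (-1 : ℤ)).app _), fun n => hf n (st n),
    fun n j hj => isIso_H_α (st n) j (by omega)⟩

theorem isHocolim_of_iso_eventually [HasColimitsOfShape (Discrete ℕ) (DCoh.D X)] (E : ℕ → DCoh.D X)
    (f : ∀ n, E n ⟶ E (n + 1)) (i : ∀ n, E n ⟶ K) (hf : ∀ n, f n ≫ i (n + 1) = i n)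
    (hi : ∀ (n : ℕ) (j : ℤ), -(n : ℤ) ≤ j → IsIso ((homologyFunctor X.Modules j).map (i n))) :
    DerLim.IsHocolim E f K i := by
  obtain ⟨L, q, c, hT⟩ := distinguished_cocone_triangle (𝟙 (∐ E) - DerLim.shiftMap E f)
  have h0 : (𝟙 (∐ E) - DerLim.shiftMap E f) ≫ Sigma.desc i = 0 := Sigma.hom_ext _ _ fun n => by
    simp [DerLim.shiftMap, Preadditive.sub_comp, hf n]
  obtain ⟨θ, hθ⟩ : ∃ θ : L ⟶ K, Sigma.desc i = q ≫ θ := Triangle.yoneda_exact₂ _ hT (Sigma.desc i) h0
  let i' : ∀ n, E n ⟶ L := fun n => Sigma.ι E n ≫ q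
  have hq : Sigma.desc i' = q := Sigma.hom_ext _ _ fun n => by simp [i']
  have hL : DerLim.IsHocolim E f L i' := ⟨c, by rw [hq]; exact hT⟩
  have hii : ∀ n, i' n ≫ θ = i n := fun n => by
    rw [Category.assoc, ← hθ, Sigma.ι_desc]
  have : IsIso θ := by
    rw [DerivedCategory.isIso_iff]
    intro j
    let H := homologyFunctor X.Modules j
    have := preservesCoproduct_homology (X := X) j
    have := hasExactColimitsOfShape_nat (X := X)
    obtain ⟨e, he⟩ := Groth.Agent.S1034.result H E f L i' hL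
    let F := Functor.ofSequence (fun n => H.map (f n))
    obtain ⟨N, hN⟩ : ∃ N : ℕ, -(N : ℤ) ≤ j := ⟨(-j).toNat, by omega⟩
    have hi' : ∀ n, N ≤ n → IsIso (H.map (i n)) := fun n hn => hi n j (by omega)
    have key : ∀ n (h : N ≤ n), F.map (homOfLE h) ≫ H.map (i n) = H.map (i N) := by
      intro n h
      induction n, h using Nat.le_induction with
      | base => simp
      | succ n hn ih =>
        rw [← homOfLE_comp hn (Nat.le_add_right n 1), Functor.map_comp, Category.assoc,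
          Functor.ofSequence_map_homOfLE_succ]
        erw [← H.map_comp, hf n]
        exact ih
    have := hi' N le_rfl
    have hι : IsIso (colimit.ι F N) := by
      refine Functor.IsEventuallyConstantFrom.isIso_ι_of_isColimit
        (fun n g => ?_) (colimit.isColimit F)
      have h1 := key n (leOfHom g)
      have := hi' n (leOfHom g)
      have h2 : IsIso (F.map (homOfLE (leOfHom g)) ≫ H.map (i n)) := h1.symm ▸ hi' N le_rfl
      exact @IsIso.of_isIso_comp_right _ _ _ _ _ _ _ (hi' n (leOfHom g)) h2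
    have : IsIso (H.map (i' N)) := he N ▸ (inferInstance : IsIso (colimit.ι F N ≫ e.hom))
    have : IsIso (H.map (i' N) ≫ H.map θ) := by rw [← H.map_comp, hii]; infer_instance
    exact IsIso.of_isIso_comp_left (H.map (i' N)) _
  refine ⟨inv θ ≫ c, isomorphic_distinguished _ hT _
    (Triangle.isoMk _ _ (Iso.refl _) (Iso.refl _) (asIso θ).symm ?_ ?_ ?_)⟩
  · exact (Category.comp_id _).trans (Category.id_comp _).symm
  · exact (congrArg (· ≫ inv θ) hθ).trans ((Category.assoc _ _ _).trans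
      ((congrArg (q ≫ ·) (IsIso.hom_inv_id θ)).trans ((Category.comp_id q).trans (Category.id_comp q).symm)))
  · exact (congrArg _ (CategoryTheory.Functor.map_id _ _)).trans (Category.comp_id _)

theorem pc_of_system (E : ℕ → DCoh.D X) (i : ∀ n, E n ⟶ K) (hE : ∀ n, DCoh.IsPerfect (E n))
    (hi : ∀ n : ℕ, IsIso (((TStructure.t : CategoryTheory.Triangulated.TStructure (DCoh.D X)).truncGE (-(n : ℤ))).map (i n)))
    (m : ℤ) : DCoh.IsPseudoCoherentD m K := by
  obtain ⟨n, hn⟩ : ∃ n : ℕ, -(n : ℤ) ≤ m := ⟨(-m).toNat, by omega⟩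
  have h := (Kosz.isIso_truncGE_map_iff (i n) _).1 (hi n)
  refine PCohD.pc_of_appr (i n) ⟨fun j hj => h j (by omega), ?_⟩ (PCohD.pc_of_perfect (hE n) m)
  have := h m hn
  infer_instance

theorem isIso_truncGE {E : ℕ → DCoh.D X} (i : ∀ n, E n ⟶ K)
    (hi : ∀ (n : ℕ) (j : ℤ), -(n : ℤ) ≤ j → IsIso ((homologyFunctor X.Modules j).map (i n))) (n : ℕ) :
    IsIso (((TStructure.t : CategoryTheory.Triangulated.TStructure (DCoh.D X)).truncGE (-(n : ℤ))).map (i n)) :=
  (Kosz.isIso_truncGE_map_iff (i n) _).2 (hi n)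

theorem isZero_restrict_of_supp (W : X.Opens) (h : ∀ i, CohB1.support (DCoh.HD K i) ⊆ (W : Set X)ᶜ) :
    IsZero ((DCoh.restrictD W.ι).obj K) := by
  have hz : ∀ i, IsZero ((homologyFunctor (W : Scheme.{u}).Modules i).obj ((DCoh.restrictD W.ι).obj K)) :=
    fun i => vanGE_restrict_of_support W (n := i) (fun j _ => h j) i le_rfl
  have : IsIso (0 : (DCoh.restrictD W.ι).obj K ⟶ (DCoh.restrictD W.ι).obj K) := by
    rw [DerivedCategory.isIso_iff]
    exact fun i => isIso_of_isInitial (hz i).isInitial (hz i).isInitial _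
  rw [IsZero.iff_id_eq_zero]
  exact (cancel_epi (0 : (DCoh.restrictD W.ι).obj K ⟶ _)).1 (by simp)

end Groth.Agent.GammaLib.HocolimPC
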