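import Groth.Agent.GammaLib.Basic
import Groth.Agent.PerfExt.Local
import Groth.Agent.KFlat.RPushBase
import Groth.Agent.CohDerLib.Kosz.Geom

/-!
# Local objects are direct images
-/

set_option autoImplicit false
set_option backward.isDefEq.respectTransparency.types false

universe u

open CategoryTheory CategoryTheory.Limits AlgebraicGeometry Pretriangulated DerivedCategory
open Groth.Agent.KFlat Groth.Agent.KFlat.WeakKInj Groth.Agent.KFlat.RPush

attribute [local instance] HasDerivedCategory.standard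
attribute [-instance] CategoryTheory.ReflQuiver.toQuiver

noncomputable section

namespace Groth.Agent.GammaLib

variable {U X : Scheme.{u}} (j : U ⟶ X) [IsOpenImmersion j] [DCoh.HasRpush j]

/-- restricting the derived direct image gives the identity -/
def restrictRpush : DCoh.Rpush j ⋙ DCoh.restrictD j ≅ 𝟭 (DCoh.D U) :=
  Localization.liftNatIso DerivedCategory.Q (HomologicalComplex.quasiIso U.Modules (ComplexShape.up ℤ))
    (DerivedCategory.Q ⋙ (DCoh.Rpush j ⋙ DCoh.restrictD j)) DerivedCategory.Q _ (𝟭 _)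
    ((Functor.associator _ _ _).symm ≪≫ Functor.isoWhiskerRight (rpushIso j) _ ≪≫
      Functor.associator _ _ _ ≪≫
      Functor.isoWhiskerLeft (injRes U)
        (Functor.associator _ _ _ ≪≫
          Functor.isoWhiskerLeft (pushCx j) (Scheme.Modules.restrictFunctor j).mapDerivedCategoryFactors ≪≫
          (Functor.associator _ _ _).symm ≪≫
          Functor.isoWhiskerRight (RPushBase.mapCxComp _ _ _ ≪≫
            NatIso.mapHomologicalComplex (Scheme.Modules.restrictFunctorAdjCounitIso j) _ ≪≫
            Functor.mapHomologicalComplexIdIso _ _) _ ≪≫ Functor.leftUnitor _) ≪≫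
      injQIso)

variable (adj : DCoh.restrictD j ⊣ DCoh.Rpush j)

theorem isIso_counit (F : DCoh.D U) : IsIso (adj.counit.app F) := by
  have := adj.isIso_counit_of_iso (restrictRpush j)
  infer_instance

theorem isIso_restrict_unit (E : DCoh.D X) : IsIso ((DCoh.restrictD j).map (adj.unit.app E)) := by
  have := isIso_counit j adj ((DCoh.restrictD j).obj E)
  have : IsIso ((DCoh.restrictD j).map (adj.unit.app E) ≫ adj.counit.app ((DCoh.restrictD j).obj E)) := by
    have h := adj.left_triangle_components E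
    exact h.symm ▸ (inferInstance : IsIso (𝟙 ((DCoh.restrictD j).obj E)))
  exact IsIso.of_isIso_comp_right _ (adj.counit.app ((DCoh.restrictD j).obj E))

include adj in
theorem local_Rpush (F : DCoh.D U) : Local j ((DCoh.Rpush j).obj F) := fun _ hY φ =>
  (adj.homEquiv _ _).symm.injective (hY.eq_of_src _ _)

theorem local_of_iso {C C' : DCoh.D X} (e : C ≅ C') (h : Local j C) : Local j C' := fun Y hY φ =>
  (cancel_mono e.inv).1 ((h Y hY _).trans zero_comp.symm)

/-- a local object is the direct image of its restriction -/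
theorem isIso_unit_of_local {C : DCoh.D X} (hC : Local j C) : IsIso (adj.unit.app C) := by
  obtain ⟨S, a, d, hT⟩ := distinguished_cocone_triangle₁ (adj.unit.app C)
  have hS : IsZero ((DCoh.restrictD j).obj S) :=
    Triangle.isZero₁_of_isIso₂ _ ((DCoh.restrictD j).map_distinguished _ hT) (isIso_restrict_unit j adj C)
  have ha : a = 0 := hC S hS a
  have hS1 : IsZero ((DCoh.restrictD j).obj (S⟦(1 : ℤ)⟧)) :=
    ((shiftFunctor (DCoh.D U) (1 : ℤ)).map_isZero hS).of_iso (((DCoh.restrictD j).commShiftIso (1 : ℤ)).app S)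
  -- `d` is split epi with zero composite to the supported object
  obtain ⟨s, hs⟩ : ∃ s : S⟦(1 : ℤ)⟧ ⟶ (DCoh.Rpush j).obj ((DCoh.restrictD j).obj C), s ≫ d = 𝟙 _ := by
    obtain ⟨s, hs⟩ := Triangle.coyoneda_exact₃ _ (rot_of_distTriang _ hT) (𝟙 (S⟦(1 : ℤ)⟧)) (by
      change 𝟙 _ ≫ (-a⟦(1 : ℤ)⟧') = 0
      rw [ha, Functor.map_zero, neg_zero, comp_zero])
    exact ⟨s, hs.symm⟩
  have hs0 : s = 0 := local_Rpush j adj _ _ hS1 s
  have hz : IsZero (S⟦(1 : ℤ)⟧) := by
    rw [IsZero.iff_id_eq_zero, ← hs, hs0, zero_comp]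
  have hzS : IsZero S := ((shiftFunctor (DCoh.D X) (-1 : ℤ)).map_isZero hz).of_iso
    ((shiftFunctorCompIsoId (DCoh.D X) (1 : ℤ) (-1) (by omega)).app S).symm
  exact (Triangle.isZero₁_iff_isIso₂ _ hT).1 hzS

end Groth.Agent.GammaLib
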