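import Groth.Agent.KFlat.QCohAcy
import Groth.Agent.KFlat.ExtZero
import Groth.Agent.QCoh.Exact
import Groth.Agent.GammaLib.RlimEpi1

/-!
# Limits of towers of quasi-coherent modules with surjective transition maps
-/

set_option autoImplicit false
set_option backward.isDefEq.respectTransparency.types false

universe u

open CategoryTheory CategoryTheory.Limits AlgebraicGeometry Opposite TopologicalSpace
open Groth.Agent.CohAff Groth.Agent.KFlat

attribute [local instance] HasDerivedCategory.standard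
attribute [-instance] CategoryTheory.ReflQuiver.toQuiver

noncomputable section

namespace Groth.Agent.GammaLib.QLim

variable {X : Scheme.{u}} {F : ℕ → X.Modules} (hF : ∀ n, Coh.IsQCoh (F n)) (t : ∀ n, F (n + 1) ⟶ F n)
  (ht : ∀ n, 1 ≤ n → Epi (t n))

/-- the projections -/
abbrev pr (n : ℕ) : limit (Functor.ofOpSequence t) ⟶ F n := limit.π (Functor.ofOpSequence t) (op n)

theorem pr_comp (n : ℕ) : pr t (n + 1) ≫ t n = pr t n := by
  refine Eq.trans (congrArg (pr t (n + 1) ≫ ·) ?_) (limit.w (Functor.ofOpSequence t) (homOfLE (Nat.le_add_right n 1)).op)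
  exact (Functor.ofOpSequence_map_homOfLE_succ t n).symm

/-- a map of modules on abelian presheaves -/
abbrev ab {M N : X.Modules} (f : M ⟶ N) : (Coh.toAb M).obj ⟶ (Coh.toAb N).obj :=
  ((Groth.Agent.ModShf.toAbFunctor X).map f).hom

theorem cmap_ab_comp {ι : Type u} (V : ι → X.Opens) {M N P : X.Modules} (f : M ⟶ N) (g : N ⟶ P) (n : ℕ)
    (s : Cochain (Coh.toAb M).obj V n) : cmap (ab (f ≫ g)) V n s = cmap (ab g) V n (cmap (ab f) V n s) := by
  funext x
  rfl

include hF ht in
theorem step {U : X.Opens} {ι : Type u} {V : ι → X.Opens} (hV : (affCov X).cov U V) (n k : ℕ) (hk : 1 ≤ k)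
    (s : Cochain (Coh.toAb (F (k + 1))).obj V (n + 1)) (hs : cd _ V (n + 1) s = 0)
    (a : Cochain (Coh.toAb (F k)).obj V n) (ha : cd _ V n a = cmap (ab (t k)) V (n + 1) s) :
    ∃ b : Cochain (Coh.toAb (F (k + 1))).obj V n, cd _ V n b = s ∧ cmap (ab (t k)) V n b = a := by
  have := ht k hk
  let S : ShortComplex X.Modules := ShortComplex.mk (kernel.ι (t k)) (t k) (kernel.condition _)
  have hS : S.ShortExact :=
    { exact := ShortComplex.exact_of_f_is_kernel _ (kernelIsKernel _)
      mono_f := inferInstanceAs (Mono (kernel.ι _))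
      epi_g := inferInstanceAs (Epi (t k)) }
  have hK : QCohAcy.Good (kernel (t k)) :=
    QCohAcy.good_of_qcoh _ (@Groth.Agent.QCoh.isQuasicoherent_kernel X _ _ (t k) (hF (k + 1)) (hF k))
  have hS' := QCohAcy.shortExact_toAb hS
  let S' := S.map (Groth.Agent.ModShf.toAbFunctor X)
  let s' : Cochain S'.X₂.obj V (n + 1) := s
  let a' : Cochain S'.X₃.obj V n := a
  have ha' : cd S'.X₃.obj V n a' = cmap S'.g.hom V (n + 1) s' := ha
  have hs' : cd S'.X₂.obj V (n + 1) s' = 0 := hs
  choose b₀ hb₀ using fun x => CovSys.Good.sec_surjective (C := affCov X) hS' hK ((affCov X).inter_mem hV x) (a' x)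
  have hb₀' : cmap S'.g.hom V n b₀ = a' := funext hb₀
  obtain ⟨c, hc⟩ := exists_cmap_f hS' (s := cd S'.X₂.obj V n b₀ - s')
    (by rw [map_sub, ← cd_cmap, hb₀', ha', sub_self])
  obtain ⟨d, hd⟩ := hK U ι V hV n c (cmap_f_injective hS' V (n + 2)
    ((cd_cmap S'.f.hom V (n + 1) c).symm.trans ((congrArg _ hc).trans
      (((map_sub _ _ _).trans (by rw [cd_cd, hs', sub_zero])).trans (map_zero _).symm))))
  have hd' : cd S'.X₂.obj V n (cmap S'.f.hom V n d) = cd S'.X₂.obj V n b₀ - s' := by
    rw [cd_cmap]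
    exact (congrArg _ hd).trans hc
  have h1 : cd S'.X₂.obj V n (b₀ - cmap S'.f.hom V n d) = s' := by rw [map_sub, hd', sub_sub_cancel]
  have h2 : cmap S'.g.hom V n (b₀ - cmap S'.f.hom V n d) = a' := by
    rw [map_sub, hb₀', cmap_g_f, sub_zero]
  exact ⟨_, h1, h2⟩

theorem hom_app (W : X.Opens) {M N : X.Modules} (g : QCohAcy.free W ⟶ M) (f : M ⟶ N) :
    Groth.Agent.KFlat.freeUEquiv (O := X.sheaf) W N (g ≫ f) =
      ((ab f).app (op W)).hom (Groth.Agent.KFlat.freeUEquiv (O := X.sheaf) W M g) :=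
  Groth.Agent.KFlat.freeUEquiv_comp (O := X.sheaf) W g f

include hF ht in
/-- the limit is Čech acyclic on affine opens -/
theorem good_limit : QCohAcy.Good (limit (Functor.ofOpSequence t)) := by
  classical
  intro U ι V hV n s hs
  have : HasLimit (Functor.ofOpSequence t) := inferInstance
  let L := limit (Functor.ofOpSequence t)
  let sk : ∀ k, Cochain (Coh.toAb (F k)).obj V (n + 1) := fun k => cmap (ab (pr t k)) V (n + 1) s
  have hsk : ∀ k, cd _ V (n + 1) (sk k) = 0 := fun k => by
    rw [cd_cmap, hs, map_zero]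
  have hst : ∀ k, cmap (ab (t k)) V (n + 1) (sk (k + 1)) = sk k := fun k => by
    rw [← cmap_ab_comp, pr_comp]
  obtain ⟨b₁, hb₁⟩ := QCohAcy.good_of_qcoh _ (hF 1) U ι V hV n (sk 1) (hsk 1)
  let tk : ∀ k : ℕ, {b : Cochain (Coh.toAb (F (k + 1))).obj V n // cd _ V n b = sk (k + 1)} := fun k =>
    Nat.rec (motive := fun k => {b : Cochain (Coh.toAb (F (k + 1))).obj V n // cd _ V n b = sk (k + 1)})
      ⟨b₁, hb₁⟩ (fun k a => ⟨(step hF t ht hV n (k + 1) (by omega) (sk (k + 2)) (hsk _) a.1
          (a.2.trans (hst (k + 1)).symm)).choose,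
        (step hF t ht hV n (k + 1) (by omega) (sk (k + 2)) (hsk _) a.1
          (a.2.trans (hst (k + 1)).symm)).choose_spec.1⟩) k
  have htk : ∀ k, cmap (ab (t (k + 1))) V n (tk (k + 1)).1 = (tk k).1 := fun k =>
    (step hF t ht hV n (k + 1) (by omega) (sk (k + 2)) (hsk _) (tk k).1
      ((tk k).2.trans (hst (k + 1)).symm)).choose_spec.2
  let T : ∀ k, Cochain (Coh.toAb (F k)).obj V n := fun k => cmap (ab (t k)) V n (tk k).1
  have hT : ∀ k, cmap (ab (t k)) V n (T (k + 1)) = T k := fun k => congrArg (cmap (ab (t k)) V n) (htk k)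
  have hTd : ∀ k, cd _ V n (T k) = sk k := fun k => by
    rw [cd_cmap, (tk k).2, hst]
  let y : ∀ x, QCohAcy.free (inter V x) ⟶ L := fun x => limit.lift (Functor.ofOpSequence t)
    { pt := QCohAcy.free (inter V x)
      π := NatTrans.ofOpSequence
        (fun k => (Groth.Agent.KFlat.freeUEquiv (O := X.sheaf) (inter V x) (F k)).symm (T k x)) fun k => by
        simp only [Functor.const_obj_map, Functor.ofOpSequence_map_homOfLE_succ]
        refine (Category.id_comp _).trans ?_
        refine (Groth.Agent.KFlat.freeUEquiv (O := X.sheaf) (inter V x) (F k)).injective ?_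
        exact (Equiv.apply_symm_apply _ _).trans ((congrFun (hT k) x).symm.trans
          ((congrArg _ (Equiv.apply_symm_apply _ _)).symm.trans (hom_app _ _ _).symm)) }
  let Y : Cochain (Coh.toAb L).obj V n := fun x =>
    Groth.Agent.KFlat.freeUEquiv (O := X.sheaf) (inter V x) L (y x)
  have hy : ∀ x k, y x ≫ pr t k = (Groth.Agent.KFlat.freeUEquiv (O := X.sheaf) (inter V x) (F k)).symm (T k x) :=
    fun x k => limit.lift_π (F := Functor.ofOpSequence t) _ _
  have hY : ∀ k, cmap (ab (pr t k)) V n Y = T k := fun k => funext fun x =>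
    ((hom_app (inter V x) (y x) (pr t k)).symm.trans (congrArg _ (hy x k))).trans
      (Equiv.apply_symm_apply _ _)
  refine ⟨Y, funext fun x => ?_⟩
  let A : QCohAcy.free (inter V x) ⟶ L :=
    (Groth.Agent.KFlat.freeUEquiv (O := X.sheaf) (inter V x) L).symm (cd (Coh.toAb L).obj V n Y x)
  let B : QCohAcy.free (inter V x) ⟶ L :=
    (Groth.Agent.KFlat.freeUEquiv (O := X.sheaf) (inter V x) L).symm (s x)
  have hAB : A = B := by
    refine @limit.hom_ext _ _ _ _ (Functor.ofOpSequence t) inferInstance _ A B fun k => ?_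
    obtain ⟨k⟩ := k
    apply (Groth.Agent.KFlat.freeUEquiv (O := X.sheaf) (inter V x) (F k)).injective
    refine (hom_app _ A (pr t k)).trans (Eq.trans ?_ (hom_app _ B (pr t k)).symm)
    refine (congrArg _ (Equiv.apply_symm_apply _ _)).trans (Eq.trans ?_ (congrArg _ (Equiv.apply_symm_apply _ _)).symm)
    exact congrFun (((cd_cmap (ab (pr t k)) V n Y).symm.trans (congrArg _ (hY k))).trans (hTd k)) x
  exact (Groth.Agent.KFlat.freeUEquiv (O := X.sheaf) (inter V x) L).symm.injective hAB

theorem isQCoh_of_isZero {Z : X.Modules} (hZ : IsZero Z) (M : X.Modules) (hM : Coh.IsQCoh M) : Coh.IsQCoh Z := by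
  have h : IsZero (kernel (𝟙 M)) := IsZero.of_mono_eq_zero (kernel.ι (𝟙 M)) (kernel.ι_of_mono (𝟙 M))
  exact @Groth.Agent.QCoh.isQuasicoherent_of_iso X _ _ (h.iso hZ) (@Groth.Agent.QCoh.isQuasicoherent_kernel X _ _ (𝟙 M) hM hM)

include hF ht in
theorem rlim_good (U : X.affineOpens) : RlimEpi1.Good (QCohAcy.free U.1)
    (fun n => (DerivedCategory.singleFunctor X.Modules 0).obj (F n))
    (fun n => (DerivedCategory.singleFunctor X.Modules 0).map (t n)) where
  bij m n := by
    let e := DerivedCategory.singleFunctorCompHomologyFunctorIso X.Modules 0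
    refine TruncHom.Φ_bijective_of_isGE (QCohAcy.free U.1) m 0 _ inferInstance fun j _ => ?_
    by_cases hj : j = 0
    · subst hj
      exact (QCohAcy.acy_free U.2 (QCohAcy.good_of_qcoh _ (hF n))).of_iso (e.app (F n)).symm
    · refine TruncHom.acy_of_isZero _ ?_
      rcases lt_or_gt_of_ne hj with h | h
      · exact DerivedCategory.isZero_of_isGE _ 0 j h
      · exact DerivedCategory.isZero_of_isLE _ 0 j h
  surj m n hn := by
    intro g
    by_cases hm : m = 0
    · subst hm
      have := ht n hn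
      let e := DerivedCategory.singleFunctorCompHomologyFunctorIso X.Modules 0
      let S : ShortComplex X.Modules := ShortComplex.mk (kernel.ι (t n)) (t n) (kernel.condition _)
      have hS : S.ShortExact :=
        { exact := ShortComplex.exact_of_f_is_kernel _ (kernelIsKernel _)
          mono_f := inferInstanceAs (Mono (kernel.ι _))
          epi_g := inferInstanceAs (Epi (t n)) }
      have hK : QCohAcy.Good (kernel (t n)) :=
        QCohAcy.good_of_qcoh _ (@Groth.Agent.QCoh.isQuasicoherent_kernel X _ _ (t n) (hF (n + 1)) (hF n))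
      obtain ⟨σ, hσ⟩ := QCohAcy.app_surjective_of_good hS hK U.2
        (Groth.Agent.KFlat.freeUEquiv (O := X.sheaf) U.1 (F n) (g ≫ e.hom.app (F n)))
      refine ⟨(Groth.Agent.KFlat.freeUEquiv (O := X.sheaf) U.1 (F (n + 1))).symm σ ≫ e.inv.app (F (n + 1)), ?_⟩
      refine (Category.assoc _ _ _).trans ?_
      refine (congrArg (_ ≫ ·) (e.inv.naturality (t n)).symm).trans ?_
      refine (Category.assoc _ _ _).symm.trans ?_
      refine (cancel_mono (e.hom.app (F n))).1 ?_
      refine (Category.assoc _ _ _).trans ((congrArg (_ ≫ ·) (e.inv_hom_id_app (F n))).trans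
        ((Category.comp_id _).trans ?_))
      apply (Groth.Agent.KFlat.freeUEquiv (O := X.sheaf) U.1 (F n)).injective
      exact ((hom_app U.1 _ (t n)).trans (congrArg _ (Equiv.apply_symm_apply _ _))).trans hσ
    · refine ⟨0, IsZero.eq_of_tgt ?_ _ _⟩
      rcases lt_or_gt_of_ne hm with h | h
      · exact DerivedCategory.isZero_of_isGE _ 0 m h
      · exact DerivedCategory.isZero_of_isLE _ 0 m h

end Groth.Agent.GammaLib.QLim
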