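import Groth.Agent.AlgzW.BAResDeg
import Groth.Agent.DRing.PCTools
import Groth.Agent.DRing.PCBaseChange
import Groth.Agent.DRing.PCDescent
import Mathlib.Algebra.Homology.HomotopyCategory.MappingCone
import Mathlib.RingTheory.Localization.BaseChange

/-!
# Bounded above finite free approximations up to torsion

Given a complex `K` of `R`-modules whose localisations at finitely many elements are pseudo-coherent,
there is a bounded above complex of finite free modules mapping to `K` with cone torsion at those elements.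
-/

set_option autoImplicit false

universe u

open CategoryTheory CategoryTheory.Limits CochainComplex CochainComplex.HomComplex

attribute [local instance] HasDerivedCategory.standard

noncomputable section

namespace Groth.Agent.GammaLib.TorsRes

open Groth.Agent.DRing Groth.Agent.DRing.Homology Groth.Agent.DRing.KProj Groth.Agent.DRing.BARes
open Groth.Agent.AlgzW.BAResDeg (iso_biprod_zero iso_zero_biprod)
open scoped TensorProduct

variable {R : Type u} [CommRing R] {K : CochainComplex (ModuleCat.{u} R) ℤ}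

/-- the cone of `α` is `fs`-torsion in degree `i` -/
def ConeTors (fs : List R) {E : CochainComplex (ModuleCat.{u} R) ℤ} (α : E ⟶ K) (i : ℤ) : Prop :=
  ∀ a ∈ fs, ∀ (e : E.X (i + 1)) (x : K.X i), IsCyc E (i + 1) e →
    (α.f (i + 1)).hom e + (K.d i (i + 1)).hom x = 0 →
      ∃ (k : ℕ) (e' : E.X i) (x' : K.X (i - 1)), -(E.d i (i + 1)).hom e' = a ^ k • e ∧
        (α.f i).hom e' + (K.d (i - 1) i).hom x' = a ^ k • x

variable (K) (fs : List R) (b : ℤ)

/-- the next cone cohomology is covered up to torsion by a finite free module -/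
def Step : Prop :=
  ∀ (m : ℤ) (E : CochainComplex (ModuleCat.{u} R) ℤ) (α : E ⟶ K), m ≤ b + 1 →
    (∀ i, i < m ∨ b < i → IsZero (E.X i)) → (∀ i, Module.Finite R (E.X i) ∧ Module.Free R (E.X i)) →
    (∀ i, m ≤ i → ConeTors fs α i) →
    ∃ (F : ModuleCat.{u} R) (g : F ⟶ (mappingCone α).X (m - 1)),
      (Module.Finite R F ∧ Module.Free R F) ∧
      g ≫ (mappingCone α).d (m - 1) m = 0 ∧
      ∀ a ∈ fs, ∀ z, IsCyc (mappingCone α) (m - 1) z →
        ∃ (k : ℕ) (f : F) (w : (mappingCone α).X (m - 2)),
        g.hom f + ((mappingCone α).d (m - 2) (m - 1)).hom w = a ^ k • z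

/-- A stage of the resolution. -/
structure Stage (n : ℕ) : Type (u + 1) where
  E : CochainComplex (ModuleCat.{u} R) ℤ
  α : E ⟶ K
  vanish : ∀ i, i < b + 1 - n ∨ b < i → IsZero (E.X i)
  mem : ∀ i, Module.Finite R (E.X i) ∧ Module.Free R (E.X i)
  exact : ∀ i, b + 1 - n ≤ i → ConeTors fs α i

variable {K fs b}

section Next

variable {n : ℕ} (s : Stage K fs b n) (hstep : Step K fs b)

include hstep in
lemma exists_next : ∃ (s' : Stage K fs b (n + 1)) (ι : s.E ⟶ s'.E), ι ≫ s'.α = s.α ∧
    (∀ i, b + 1 - n ≤ i → IsIso (ι.f i)) ∧ ∀ i, Function.Injective (ι.f i).hom := by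
  obtain ⟨m, hm⟩ : ∃ m, m = b + 1 - (n : ℤ) := ⟨_, rfl⟩
  obtain ⟨F, g, hF, hg, hgs⟩ := hstep m s.E s.α (by omega)
    (fun i hi => s.vanish i (by omega)) s.mem
    (fun i hi => s.exact i (by omega))
  let uE : F ⟶ s.E.X m := g ≫ (mappingCone.fst s.α).1.v (m - 1) m (by omega)
  let vK : F ⟶ K.X (m - 1) := -(g ≫ (mappingCone.snd s.α).v (m - 1) (m - 1) (add_zero _))
  have hu : uE ≫ s.E.d m (m + 1) = 0 := by
    have := mappingCone.d_fst_v s.α (m - 1) m (m + 1) (by omega) rfl
    have h2 := congrArg (g ≫ ·) this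
    simp only [reassoc_of% hg, zero_comp, Preadditive.comp_neg] at h2
    simp only [uE, Category.assoc]
    exact neg_eq_zero.1 h2.symm
  have huv : vK ≫ K.d (m - 1) m = uE ≫ s.α.f m := by
    have := congrArg (g ≫ ·) (mappingCone.d_snd_v s.α (m - 1) m (by omega))
    simp only [reassoc_of% hg, zero_comp, Preadditive.comp_add] at this
    simp only [vK, uE, Preadditive.neg_comp, Category.assoc]
    exact neg_eq_of_add_eq_zero_left this.symm
  let S := (singleFunctor (ModuleCat.{u} R) m).obj F
  let ψ : S ⟶ s.E := HomologicalComplex.mkHomFromSingle uE (fun k (hk : m + 1 = k) => hk ▸ hu)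
  have hψ : ψ.f m = (HomologicalComplex.singleObjXSelf (.up ℤ) m F).hom ≫ uE :=
    HomologicalComplex.mkHomFromSingle_f _ _
  let h : Cochain S K (-1) := Cochain.fromSingleMk vK (show m + (-1) = m - 1 by omega)
  have hh : δ (-1) 0 h = Cochain.ofHom (ψ ≫ s.α) := by
    rw [Cochain.δ_fromSingleMk vK _ 0 m (add_zero m), huv]
    ext p : 1
    by_cases hp : p = m
    · subst hp
      rw [Cochain.fromSingleMk_v, Cochain.ofHom_v, HomologicalComplex.comp_f, hψ]
      rfl
    · exact (HomologicalComplex.isZero_single_obj_X _ _ _ _ hp).eq_of_src _ _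
  have hS : ∀ i, i ≠ m → IsZero (S.X i) := fun i hi =>
    HomologicalComplex.isZero_single_obj_X _ _ _ _ hi
  have hiso' : ∀ i, m ≤ i → Function.Surjective ((mappingCone.inr ψ).f i).hom := by
    intro i hi c
    refine ⟨((mappingCone.snd ψ).v i i (add_zero i)).hom c, ext_cone ψ i (i + 1) rfl ?_ ?_⟩
    · have := ModuleCat.subsingleton_of_isZero (hS (i + 1) (by omega))
      exact Subsingleton.elim _ _
    · rw [← LinearMap.comp_apply, ← ModuleCat.hom_comp, mappingCone.inr_f_snd_v]; rfl
  have hinj : ∀ i, Function.Injective ((mappingCone.inr ψ).f i).hom := fun i x y hxy => by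
    have := congrArg ((mappingCone.snd ψ).v i i (add_zero i)).hom hxy
    rwa [← LinearMap.comp_apply, ← LinearMap.comp_apply, ← ModuleCat.hom_comp,
      mappingCone.inr_f_snd_v] at this
  refine ⟨{ E := mappingCone ψ
            α := mappingCone.desc ψ h s.α hh
            vanish := fun i hi => ?_
            mem := fun i => ?_
            exact := fun i hi => ?_ }, mappingCone.inr ψ, mappingCone.inr_desc ψ h s.α hh, ?_, hinj⟩
  · rw [mappingCone.isZero_X_iff]
    exact ⟨hS _ (by omega), s.vanish i (by omega)⟩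
  · refine PC.finiteFree_of_iso (HomologicalComplex.homotopyCofiber.XIsoBiprod ψ i (i + 1) rfl).symm ?_
    by_cases h' : i + 1 = m
    · obtain rfl : i = m - 1 := by omega
      refine PC.finiteFree_of_iso (iso_biprod_zero (s.vanish (m - 1) (by omega))) (PC.finiteFree_of_iso ?_ hF)
      rw [h']
      exact (HomologicalComplex.singleObjXSelf (.up ℤ) m F).symm
    · exact PC.finiteFree_of_iso (iso_zero_biprod (hS _ h')) (s.mem i)
  · intro a ha e x he hx
    have hdα : ∀ j (y : s.E.X j), ((mappingCone.desc ψ h s.α hh).f j).hom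
        (((mappingCone.inr ψ).f j).hom y) = (s.α.f j).hom y := fun j y => by
      rw [← LinearMap.comp_apply, ← ModuleCat.hom_comp, mappingCone.inr_f_desc_f]
    obtain ⟨e₀, rfl⟩ := hiso' (i + 1) (by omega) e
    have he₀ : IsCyc s.E (i + 1) e₀ := by
      unfold IsCyc at he ⊢
      rw [hom_d] at he
      exact hinj _ (he.trans (map_zero _).symm)
    rw [hdα] at hx
    by_cases hi' : m ≤ i
    · obtain ⟨k, e', x', h1, h2⟩ := s.exact i (by omega) a ha e₀ x he₀ hx
      refine ⟨k, ((mappingCone.inr ψ).f i).hom e', x', ?_, ?_⟩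
      · rw [hom_d, ← map_neg, h1, map_smul]
      · rw [hdα, h2]
    · obtain rfl : i = m - 1 := by omega
      obtain ⟨k, f, w, hfw⟩ := hgs a ha (pairC s.α (m - 1) (m - 1 + 1) rfl e₀ x)
        ((isCyc_pairC s.α _ _ rfl e₀ x).2 ⟨he₀, hx⟩)
      refine ⟨k, ?_⟩
      rw [← map_smul (((mappingCone.inr ψ).f (m - 1 + 1)).hom)]
      have hp : a ^ k • pairC s.α (m - 1) (m - 1 + 1) rfl e₀ x =
          pairC s.α (m - 1) (m - 1 + 1) rfl (a ^ k • e₀) (a ^ k • x) := by
        simp only [pairC, smul_add, map_smul]
      rw [hp] at hfw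
      clear hp he hx he₀
      generalize a ^ k • e₀ = e₁ at hfw ⊢
      generalize a ^ k • x = x₁ at hfw ⊢
      clear x e₀
      rename' e₁ => e₀, x₁ => x
      let z := pairC s.α (m - 1) (m - 1 + 1) rfl e₀ x
      let w₀ := ((mappingCone.fst s.α).1.v (m - 2) (m - 1) (by omega)).hom w
      have hw₀ : w₀ = 0 := by
        have := ModuleCat.subsingleton_of_isZero (s.vanish (m - 1) (by omega))
        exact Subsingleton.elim _ _
      have h1 : (uE.hom f) = (s.E.XIsoOfEq (show m - 1 + 1 = m by omega)).hom.hom e₀ := by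
        have := congrArg ((mappingCone.fst s.α).1.v (m - 1) m (by omega)).hom hfw
        rw [map_add, fst_d s.α (m - 2) (m - 1) m (by omega) (by omega)] at this
        change uE.hom f + -(s.E.d (m - 1) m).hom w₀ = _ at this
        rw [hw₀, map_zero, neg_zero, add_zero] at this
        rw [this]
        have key : ∀ (k : ℤ) (hk : m - 1 + 1 = k), ((mappingCone.fst s.α).1.v (m - 1) k hk).hom z =
            (s.E.XIsoOfEq hk).hom.hom e₀ := by
          rintro _ rfl
          rw [fst_pairC]
          rfl
        exact key m (by omega)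
      have h2 : -(vK.hom f) + (K.d (m - 2) (m - 1)).hom
          (((mappingCone.snd s.α).v (m - 2) (m - 2) (add_zero _)).hom w) = x := by
        have := congrArg ((mappingCone.snd s.α).v (m - 1) (m - 1) (add_zero _)).hom hfw
        rw [map_add, snd_d s.α (m - 2) (m - 1) (by omega), snd_pairC] at this
        change _ + ((s.α.f (m - 1)).hom w₀ + _) = x at this
        rw [hw₀, map_zero, zero_add] at this
        rw [← this]
        simp [vK]
      let f' : S.X m := (HomologicalComplex.singleObjXSelf (.up ℤ) m F).inv.hom (-f)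
      have hf' : (HomologicalComplex.singleObjXSelf (.up ℤ) m F).hom.hom f' = -f := by
        simp only [f', ← LinearMap.comp_apply, ← ModuleCat.hom_comp, Iso.inv_hom_id,
          ModuleCat.hom_id, LinearMap.id_apply]
      refine ⟨((mappingCone.inl ψ).v m (m - 1) (by omega)).hom f',
        (K.XIsoOfEq (show m - 2 = m - 1 - 1 by omega)).hom.hom
          (((mappingCone.snd s.α).v (m - 2) (m - 2) (add_zero _)).hom w), ?_, ?_⟩
      · have key : ∀ (k : ℤ) (hk : m = k) (y : s.E.X k),
            (s.E.XIsoOfEq hk).inv.hom y = -(ψ.f m).hom f' →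
            -((mappingCone ψ).d (m - 1) k).hom (((mappingCone.inl ψ).v m (m - 1) (by omega)).hom f')
              = ((mappingCone.inr ψ).f k).hom y := by
          rintro _ rfl y hy
          rw [← LinearMap.comp_apply, ← ModuleCat.hom_comp,
            mappingCone.inl_v_d ψ m (m - 1) (m + 1) (by omega) (by omega)]
          have hd : S.d m (m + 1) = 0 := HomologicalComplex.single_obj_d _ _ _ _ _
          rw [hd, zero_comp, sub_zero, ModuleCat.hom_comp, LinearMap.comp_apply, ← map_neg, ← hy]
          rfl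
        refine key _ (by omega) e₀ ?_
        erw [hψ]
        change _ = -(uE.hom ((HomologicalComplex.singleObjXSelf (.up ℤ) m F).hom.hom f'))
        rw [hf', map_neg, neg_neg, h1]
        rfl
      · rw [← LinearMap.comp_apply, ← ModuleCat.hom_comp, mappingCone.inl_v_desc_f]
        rw [Cochain.fromSingleMk_v]
        change vK.hom ((HomologicalComplex.singleObjXSelf (.up ℤ) m F).hom.hom f') + _ = x
        rw [hf', map_neg,
          ← LinearMap.comp_apply, ← ModuleCat.hom_comp, HomologicalComplex.XIsoOfEq_hom_comp_d]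
        exact h2
  · intro i hi
    rw [ConcreteCategory.isIso_iff_bijective]
    exact ⟨hinj i, hiso' i (by omega)⟩

end Next

/-- Bounded above finite free approximation up to torsion. -/
theorem exists_resolution (hK : ∀ a ∈ fs, ∀ i, b < i → ∀ x, IsCyc K i x →
      ∃ (k : ℕ) (w : K.X (i - 1)), (K.d (i - 1) i).hom w = a ^ k • x)
    (hstep : Step K fs b) :
    ∃ (P : CochainComplex (ModuleCat.{u} R) ℤ) (π : P ⟶ K),
      (∀ i, b < i → IsZero (P.X i)) ∧ (∀ i, Module.Finite R (P.X i) ∧ Module.Free R (P.X i)) ∧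
      ∀ i, ConeTors fs π i := by
  let Z : CochainComplex (ModuleCat.{u} R) ℤ := zeroCx fun _ => ModuleCat.of R PUnit.{u + 1}
  have hZ : ∀ i, IsZero (Z.X i) := fun i => ModuleCat.isZero_of_subsingleton _
  let s₀ : Stage K fs b 0 :=
    { E := Z
      α := 0
      vanish := fun i _ => hZ i
      mem := fun i => PC.finiteFree_of_isZero (hZ i)
      exact := fun i hi a ha e x _ hx => by
        have := ModuleCat.subsingleton_of_isZero (hZ (i + 1))
        have hx' : IsCyc K i x := by simpa [IsCyc] using hx
        obtain ⟨k, w, hw⟩ := hK a ha i (by omega) x hx'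
        exact ⟨k, 0, w, Subsingleton.elim _ _, by simpa using hw⟩ }
  choose nxt ι hια hιiso hιinj using fun (n : ℕ) (s : Stage K fs b n) =>
    exists_next s hstep
  let st : ∀ n, Stage K fs b n := fun n => Nat.rec s₀ (fun k sk => nxt k sk) n
  let tr : ∀ n, (st n).E ⟶ (st (n + 1)).E := fun n => ι n (st n)
  let P := colimit (Functor.ofSequence tr)
  let π : P ⟶ K := colimit.desc _ (Cocone.mk K (NatTrans.ofSequence (fun n => (st n).α) (fun n => by
    dsimp
    rw [Functor.ofSequence_map_homOfLE_succ]
    exact (hια n (st n)).trans (Category.comp_id _).symm)))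
  have : PreservesFilteredColimitsOfSize.{0, 0} (forget (ModuleCat.{u} R)) :=
    preservesSmallestFilteredColimits_of_preservesFilteredColimits _
  have hπ : ∀ n, incl _ tr n ≫ π = (st n).α := fun n => colimit.ι_desc _ _
  have hrep : ∀ i (x : P.X i), ∃ n y, ((incl _ tr n).f i).hom y = x := fun i x =>
    Concrete.isColimit_exists_rep _
      (isColimitOfPreserves (HomologicalComplex.eval (ModuleCat.{u} R) (.up ℤ) i)
        (colimit.isColimit (Functor.ofSequence tr))) x
  have hmono : ∀ n k (h : n ≤ k) i, Function.Injective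
      (((Functor.ofSequence tr).map (homOfLE h)).f i).hom := by
    intro n k h i
    induction k, h using Nat.le_induction with
    | base => simp [homOfLE_refl, Function.injective_id]
    | succ k hk ih =>
      rw [← homOfLE_comp hk (Nat.le_add_right k 1), Functor.map_comp,
        Functor.ofSequence_map_homOfLE_succ]
      exact (hιinj k (st k) i).comp ih
  have hinj : ∀ n i, Function.Injective ((incl _ tr n).f i).hom := by
    intro n i x y hxy
    obtain ⟨k, f, g, hfg⟩ := Concrete.isColimit_exists_of_rep_eq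
      (Functor.ofSequence tr ⋙ HomologicalComplex.eval (ModuleCat.{u} R) (.up ℤ) i)
      (isColimitOfPreserves (HomologicalComplex.eval (ModuleCat.{u} R) (.up ℤ) i)
        (colimit.isColimit (Functor.ofSequence tr))) x y hxy
    obtain rfl : g = f := Subsingleton.elim _ _
    exact hmono n k (leOfHom g) i hfg
  have hup : ∀ n k (_ : n ≤ k) i (y : (st n).E.X i), ∃ y',
      ((incl _ tr k).f i).hom y' = ((incl _ tr n).f i).hom y := by
    intro n k h i y
    refine ⟨(((Functor.ofSequence tr).map (homOfLE h)).f i).hom y, ?_⟩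
    have hw : (Functor.ofSequence tr).map (homOfLE h) ≫ incl _ tr k = incl _ tr n :=
      colimit.w (Functor.ofSequence tr) (homOfLE h)
    exact congrArg (fun φ : (st n).E ⟶ P => (φ.f i).hom y) hw
  have hsurj : ∀ (n : ℕ) i, b + 1 - (n : ℤ) ≤ i → Function.Surjective ((incl _ tr n).f i).hom := by
    intro n i hi x
    obtain ⟨k, y, rfl⟩ := hrep i x
    obtain ⟨y', hy'⟩ := hup k (max n k) (le_max_right _ _) i y
    have hs : ∀ l (_ : n ≤ l) (z : (st l).E.X i), ∃ z', ((incl _ tr n).f i).hom z' =
        ((incl _ tr l).f i).hom z := by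
      intro l hl
      induction l, hl using Nat.le_induction with
      | base => exact fun z => ⟨z, rfl⟩
      | succ l hl ih =>
        intro z
        obtain ⟨z₁, rfl⟩ := ((ConcreteCategory.isIso_iff_bijective _).1
          (hιiso l (st l) i (by omega))).2 z
        obtain ⟨z', hz'⟩ := ih z₁
        refine ⟨z', hz'.trans ?_⟩
        exact (congrArg (fun φ : (st l).E ⟶ P => (φ.f i).hom z₁) (colimit_ι_succ _ tr l)).symm
    obtain ⟨z', hz'⟩ := hs _ (le_max_left n k) y'
    exact ⟨z', hz'.trans hy'⟩
  refine ⟨P, π, fun i hi => ?_, fun i => ?_, fun i a ha e x he hx => ?_⟩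
  · have := ModuleCat.subsingleton_of_isZero (hZ i)
    have : Subsingleton (P.X i) := (hsurj 0 i (by omega)).subsingleton
    exact ModuleCat.isZero_of_subsingleton _
  · have : IsIso ((incl _ tr (b + 1 - i).toNat).f i) :=
      (ConcreteCategory.isIso_iff_bijective _).2
        ⟨hinj _ i, hsurj (b + 1 - i).toNat i (by omega)⟩
    exact PC.finiteFree_of_iso (asIso ((incl _ tr (b + 1 - i).toNat).f i)) ((st _).mem i)
  · have hstage : ∀ n (j : ℤ) (y : (st n).E.X j),
        (π.f j).hom (((incl _ tr n).f j).hom y) = ((st n).α.f j).hom y := fun n j y =>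
      congrArg (fun φ : (st n).E ⟶ K => (φ.f j).hom y) (hπ n)
    obtain ⟨n₀, y₀, rfl⟩ := hrep (i + 1) e
    obtain ⟨y, hy⟩ := hup n₀ (max n₀ (b + 1 - i).toNat) (le_max_left _ _) (i + 1) y₀
    generalize hn : max n₀ (b + 1 - i).toNat = n at y hy
    rw [← hy] at he hx ⊢
    rw [hstage] at hx
    have hyc : IsCyc (st n).E (i + 1) y := by
      unfold IsCyc at he ⊢
      rw [hom_d] at he
      exact hinj n (i + 1 + 1) (he.trans (map_zero _).symm)
    obtain ⟨k, e', x', h1, h2⟩ := (st n).exact i (by omega) a ha y x hyc hx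
    exact ⟨k, ((incl _ tr n).f i).hom e', x', by rw [hom_d, ← map_neg, h1, map_smul],
      by rw [hstage, h2]⟩

section Step

variable {A : Type u} [CommRing A]

open DerivedCategory DRing.PC DBasic

/-- generators of a localised module -/
theorem exists_span_pow {B : Type u} [CommRing B] [Algebra A B] (a : A) [IsLocalization.Away a B]
    (M : ModuleCat.{u} A) (hfin : Module.Finite B (TensorProduct A B M)) :
    ∃ s : Finset M, ∀ x, ∃ k : ℕ, a ^ k • x ∈ Submodule.span A (s : Set M) := by
  classical
  obtain ⟨T, hT⟩ := (Module.Finite.fg_top : (⊤ : Submodule B (TensorProduct A B M)).FG)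
  choose S hS using fun t : T => TensorProduct.exists_finset (t : TensorProduct A B M)
  let s : Finset M := T.attach.biUnion fun t => (S t).image Prod.snd
  refine ⟨s, fun x => ?_⟩
  let N := Submodule.span A (s : Set M)
  have h0 : ∀ z : TensorProduct A B M, N.mkQ.baseChange B z = 0 := fun z => by
    have hz : z ∈ Submodule.span B (T : Set (TensorProduct A B M)) := hT.symm ▸ Submodule.mem_top
    refine (Submodule.span_le (p := LinearMap.ker (N.mkQ.baseChange B))).2 (fun t ht => ?_) hz
    rw [SetLike.mem_coe, LinearMap.mem_ker, show t = _ from hS ⟨t, ht⟩, map_sum]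
    refine Finset.sum_eq_zero fun p hp => ?_
    rw [LinearMap.baseChange_tmul, Submodule.mkQ_apply, (Submodule.Quotient.mk_eq_zero N).mpr
      (Submodule.subset_span (Finset.mem_biUnion.mpr ⟨⟨t, ht⟩, Finset.mem_attach _ _, Finset.mem_image_of_mem _ hp⟩)),
      TensorProduct.tmul_zero]
  have h1 := h0 ((1 : B) ⊗ₜ[A] x)
  rw [LinearMap.baseChange_tmul] at h1
  obtain ⟨⟨_, k, rfl⟩, hk⟩ := (IsLocalizedModule.eq_zero_iff (Submonoid.powers a)
    (TensorProduct.mk A B (M ⧸ N) 1)).1 h1
  exact ⟨k, (Submodule.Quotient.mk_eq_zero N).1 hk⟩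

/-- the localisation of a complex -/
abbrev locCx (a : A) (P : DRing.Cx A) : DRing.Cx (Localization.Away a) :=
  (LTensor.extCx (algebraMap A (Localization.Away a))).obj P

theorem flat_away (a : A) : (algebraMap A (Localization.Away a)).Flat := by
  have : Module.Flat A (Localization.Away a) := IsLocalization.flat _ (Submonoid.powers a)
  exact RingHom.flat_algebraMap_iff.2 this

theorem alg_away_eq (a : A) : (algebraMap A (Localization.Away a)).toAlgebra =
    (inferInstance : Algebra A (Localization.Away a)) :=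
  Algebra.algebra_ext _ _ fun _ => rfl

theorem tors_of_ext_subsingleton (a : A) (M : ModuleCat.{u} A)
    (h : Subsingleton ((ModuleCat.extendScalars.{u, u, u} (algebraMap A (Localization.Away a))).obj M))
    (x : M) : ∃ k : ℕ, a ^ k • x = 0 := by
  have hi : Subsingleton (@TensorProduct A _ (Localization.Away a) M _ _
      (algebraMap A (Localization.Away a)).toAlgebra.toModule _) := h
  rw [alg_away_eq] at hi
  obtain ⟨⟨_, k, rfl⟩, hk⟩ := (IsLocalizedModule.eq_zero_iff (Submonoid.powers a)
    (TensorProduct.mk A (Localization.Away a) M 1)).1 (Subsingleton.elim _ _)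
  exact ⟨k, hk⟩

theorem ext_subsingleton_of_tors (a : A) (M : ModuleCat.{u} A) (h : ∀ x : M, ∃ k : ℕ, a ^ k • x = 0) :
    Subsingleton ((ModuleCat.extendScalars.{u, u, u} (algebraMap A (Localization.Away a))).obj M) := by
  have key : ∀ z : TensorProduct A (Localization.Away a) M, z = 0 := fun z => by
    induction z using TensorProduct.induction_on with
    | zero => rfl
    | tmul c x =>
      obtain ⟨k, hk⟩ := h x
      obtain ⟨u, hu⟩ := IsLocalization.map_units (Localization.Away a)
        (⟨a ^ k, k, rfl⟩ : Submonoid.powers a)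
      calc c ⊗ₜ[A] x = (a ^ k • (↑u⁻¹ * c)) ⊗ₜ[A] x := by
            rw [Algebra.smul_def, ← mul_assoc, ← hu, Units.mul_inv, one_mul]
        _ = (↑u⁻¹ * c) ⊗ₜ[A] (a ^ k • x) := TensorProduct.smul_tmul _ _ _
        _ = 0 := by rw [hk, TensorProduct.tmul_zero]
    | add z w hz hw => rw [hz, hw, add_zero]
  have hs : Subsingleton (TensorProduct A (Localization.Away a) M) :=
    ⟨fun z w => (key z).trans (key w).symm⟩
  show Subsingleton (@TensorProduct A _ (Localization.Away a) M _ _
      (algebraMap A (Localization.Away a)).toAlgebra.toModule _)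
  rw [alg_away_eq]
  exact hs

theorem exists_span_pow_gen (a : A) (B : Type u) [CommRing B] (φ : A →+* B)
    (hB : @IsLocalization.Away A _ a B _ φ.toAlgebra) (M : ModuleCat.{u} A)
    (hfin : Module.Finite B ((ModuleCat.extendScalars.{u, u, u} φ).obj M)) :
    ∃ s : Finset M, ∀ x, ∃ k : ℕ, a ^ k • x ∈ Submodule.span A (s : Set M) := by
  let alg := φ.toAlgebra
  exact exists_span_pow (B := B) a M hfin

theorem exists_span_pow_ext (a : A) (M : ModuleCat.{u} A)
    (hfin : Module.Finite (Localization.Away a)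
      ((ModuleCat.extendScalars.{u, u, u} (algebraMap A (Localization.Away a))).obj M)) :
    ∃ s : Finset M, ∀ x, ∃ k : ℕ, a ^ k • x ∈ Submodule.span A (s : Set M) := by
  exact exists_span_pow_gen a _ (algebraMap A (Localization.Away a))
    (by rw [alg_away_eq]; infer_instance) M hfin

variable {K : DRing.Cx A} {fs : List A}

theorem exact_torsion {P : DRing.Cx A} (a : A) (i : ℤ)
    (h : Subsingleton (Dual.HD (Localization.Away a) (DRing.toD (locCx a P)) i))
    (x : P.homology i) : ∃ k : ℕ, a ^ k • x = 0 :=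
  tors_of_ext_subsingleton a _
    (((hIso (locCx a P) i) ≪≫ PCDescent.homologyExtIso _ (flat_away a) P i).toLinearEquiv.symm.toEquiv.subsingleton) x

/-- finitely many cycles generating top cohomology of the cone after each localisation -/
theorem step (hK : ∀ a ∈ fs, ∀ m, DRing.IsPseudoCoherent (Localization.Away a) m (DRing.toD (locCx a K)))
    (b : ℤ) : Step K fs b := by
  classical
  intro m E α _ hv hf htors
  let C := mappingCone α
  have hgen : ∀ a ∈ fs, ∃ s : Finset (C.homology (m - 1)), ∀ x, ∃ k : ℕ,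
      a ^ k • x ∈ Submodule.span A (s : Set (C.homology (m - 1))) := by
    intro a ha
    let φ := algebraMap A (Localization.Away a)
    have h1 : DRing.IsPseudoCoherent (Localization.Away a) (m - 1) (DRing.toD (locCx a C)) := by
      let α' := (LTensor.extCx φ).map α
      refine pc_of_iso (Q.mapIso (mappingCone.mapHomologicalComplexIso α
        (ModuleCat.extendScalars.{u, u, u} φ)).symm) (pc_cone
        (DerivedCategory.mappingCone_triangle_distinguished α') ?_ (hK a ha _))
      exact pc_of_bounded (a := m) (b := b) (fun i hi => Perfect.isZero_extCx φ (hv i hi))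
        (fun i => ⟨Perfect.finite_extendScalars φ (hf i).1, Perfect.free_extendScalars φ (hf i).2⟩) _
    have h2 : ∀ i, m - 1 < i → Subsingleton (Dual.HD (Localization.Away a) (DRing.toD (locCx a C)) i) :=
      fun i hi => by
      have ht : ∀ x : C.homology i, ∃ k : ℕ, a ^ k • x = 0 := fun x => by
        obtain ⟨z, hz, rfl⟩ := cls_surjective x
        have hz' : z = pairC α i (i + 1) rfl (((mappingCone.fst α).1.v i (i + 1) rfl).hom z)
            (((mappingCone.snd α).v i i (add_zero i)).hom z) :=
          ext_cone α i (i + 1) rfl (fst_pairC α i (i + 1) rfl _ _).symm (snd_pairC α i (i + 1) rfl _ _).symm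
        have hz2 := hz
        rw [hz'] at hz2
        obtain ⟨he, hx⟩ := (isCyc_pairC α i (i + 1) rfl _ _).1 hz2
        obtain ⟨k, e', x', q1, q2⟩ := htors i (by omega) a ha _ _ he hx
        refine ⟨k, ?_⟩
        rw [← cls_smul hz (a ^ k)]
        refine (cls_eq_zero_iff (i - 1) (by omega) _).2
          ⟨pairC α (i - 1) i (by omega) e' x', ext_cone α i (i + 1) rfl ?_ ?_⟩
        · rw [fst_d α (i - 1) i (i + 1) (by omega) rfl, fst_pairC, q1, map_smul]
        · rw [snd_d α (i - 1) i (by omega), fst_pairC, snd_pairC, q2, map_smul]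
      have := ext_subsingleton_of_tors a _ ht
      exact ((hIso (locCx a C) i) ≪≫ PCDescent.homologyExtIso _ (flat_away a) C i).toLinearEquiv.toEquiv.subsingleton
    have := finite_top h1 h2
    have hfin : Module.Finite (Localization.Away a)
        ((ModuleCat.extendScalars.{u, u, u} φ).obj (C.homology (m - 1))) :=
      Module.Finite.equiv
        ((hIso (locCx a C) (m - 1)) ≪≫ PCDescent.homologyExtIso _ (flat_away a) C (m - 1)).toLinearEquiv
    exact exists_span_pow_ext a _ hfin
  choose s hs using hgen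
  let T : Finset (C.homology (m - 1)) := fs.attach.toFinset.biUnion fun a => s a.1 a.2
  let q : (T → A) →ₗ[A] C.homology (m - 1) := Fintype.linearCombination A (fun t : T => (t : C.homology (m - 1)))
  obtain ⟨l, hl⟩ := Module.projective_lifting_property (clsLin C (m - 1)) q clsLin_surjective
  refine ⟨ModuleCat.of A (T → A),
    ModuleCat.ofHom ((LinearMap.ker (C.d (m - 1) (m - 1 + 1)).hom).subtype.comp l),
    ⟨inferInstanceAs (Module.Finite A (T → A)), inferInstanceAs (Module.Free A (T → A))⟩, ?_,
    fun a ha z hz => ?_⟩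
  · refine ModuleCat.hom_ext (LinearMap.ext fun x => ?_)
    exact (isCyc_iff (by omega) _).1 (l x).2
  · obtain ⟨k, hk⟩ := hs a ha (cls z hz)
    have hle : Submodule.span A (s a ha : Set (C.homology (m - 1))) ≤ LinearMap.range q := by
      rw [Fintype.range_linearCombination]
      exact Submodule.span_mono fun y hy => ⟨⟨y, Finset.mem_biUnion.mpr ⟨⟨a, ha⟩, by simp, hy⟩⟩, rfl⟩
    obtain ⟨f, hf'⟩ := hle hk
    have hcl : cls (l f).1 (l f).2 = cls (a ^ k • z) (hz.smul _) :=
      (LinearMap.congr_fun hl f).trans (hf'.trans (cls_smul hz _).symm)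
    obtain ⟨w, hw⟩ := (cls_eq_iff (m - 2) (by omega) (l f).2 (hz.smul _)).1 hcl
    refine ⟨k, f, -w, ?_⟩
    rw [map_neg, hw]
    change (l f).1 + -((l f).1 - a ^ k • z) = a ^ k • z
    abel

/-- `K` has a bounded above finite free approximation whose cone is torsion at each member of `fs`. -/
theorem exists_approx_free
    (hK : ∀ a ∈ fs, ∀ m, DRing.IsPseudoCoherent (Localization.Away a) m (DRing.toD (locCx a K))) :
    ∃ (P : DRing.Cx A) (π : P ⟶ K) (b : ℤ), (∀ i, b < i → IsZero (P.X i)) ∧
      (∀ i, Module.Finite A (P.X i) ∧ Module.Free A (P.X i)) ∧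
      ∀ a ∈ fs, ∀ (i : ℤ) (x : (mappingCone π).homology i), ∃ k : ℕ, a ^ k • x = 0 := by
  classical
  choose c hc using fun (a : A) (ha : a ∈ fs) => pc_boundedAbove (hK a ha 0)
  obtain ⟨b, hb⟩ := Finset.exists_le (α := ℤ) (fs.attach.toFinset.image fun p : {x // x ∈ fs} => c p.1 p.2)
  obtain ⟨P, π, hP, hPf, hπ⟩ := exists_resolution (K := K) (fs := fs) (b := b) (fun a ha i hi x hx => by
    obtain ⟨k, hk⟩ := exact_torsion a i (hc a ha i (lt_of_le_of_lt
      (hb _ (Finset.mem_image.mpr ⟨⟨a, ha⟩, by simp, rfl⟩)) hi)) (cls x hx)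
    rw [← cls_smul hx] at hk
    obtain ⟨w, hw⟩ := (cls_eq_zero_iff (i - 1) (by omega) _).1 hk
    exact ⟨k, w, hw⟩) (step hK b)
  refine ⟨P, π, b, hP, hPf, fun a ha i x => ?_⟩
  obtain ⟨z, hz, rfl⟩ := cls_surjective x
  have hz' : z = pairC π i (i + 1) rfl (((mappingCone.fst π).1.v i (i + 1) rfl).hom z)
      (((mappingCone.snd π).v i i (add_zero i)).hom z) :=
    ext_cone π i (i + 1) rfl (fst_pairC π i (i + 1) rfl _ _).symm (snd_pairC π i (i + 1) rfl _ _).symm
  have hz2 := hz
  rw [hz'] at hz2
  obtain ⟨he, hx⟩ := (isCyc_pairC π i (i + 1) rfl _ _).1 hz2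
  obtain ⟨k, e', x', q1, q2⟩ := hπ i a ha _ _ he hx
  refine ⟨k, ?_⟩
  rw [← cls_smul hz (a ^ k)]
  refine (cls_eq_zero_iff (i - 1) (by omega) _).2
    ⟨pairC π (i - 1) i (by omega) e' x', ext_cone π i (i + 1) rfl ?_ ?_⟩
  · rw [fst_d π (i - 1) i (i + 1) (by omega) rfl, fst_pairC, q1, map_smul]
  · rw [snd_d π (i - 1) i (by omega), fst_pairC, snd_pairC, q2, map_smul]

end Step

end Groth.Agent.GammaLib.TorsRes
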